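import Cfsg.Agent.H186.Hilb
import Cfsg.Agent.ClassicalGeometry.GUBasic

/-!
# Conjugacy in the finite unitary groups (helper186)

`K` a field with `q ^ 2` elements, `st q M` the transpose of the entrywise `q`-th power of `M`.

* `mem_GU_iff_st` : `g ∈ GU n K q ↔ st q g * g = 1`;
* `exists_st_mul` : every invertible `s` with `st q s = s` is `st q c * c` with `c` a unit of `K[s]`;
* `gu_isConj_iff` : elements of `GU n K q` are conjugate iff they are conjugate in `GL n K` (statement S2587);
* `exists_isConj_iff` : `A` is conjugate to a unitary matrix iff `A` is similar to `(st q A)⁻¹` (statement S2588).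
-/

set_option autoImplicit false
open Cfsg Matrix

namespace Cfsg.Agent.H186

open Cfsg.Agent.ClassicalGeometry.GUBasic

section St

variable {ι K : Type*} [Fintype ι] [DecidableEq ι] [Field K] [Fintype K] {q : ℕ}

/-- Transpose of the entrywise `q`-th power. -/
def st (q : ℕ) (M : Matrix ι ι K) : Matrix ι ι K := (M.map (fun x => x ^ q))ᵀ

omit [Fintype ι] [DecidableEq ι] [Fintype K] in
theorem st_apply (M : Matrix ι ι K) (i j : ι) : st q M i j = (M j i) ^ q := rfl

theorem pow_pow_q (hK : Fintype.card K = q ^ 2) (x : K) : (x ^ q) ^ q = x := by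
  rw [← pow_mul, ← sq, ← hK, FiniteField.pow_card]

omit [Fintype ι] [DecidableEq ι] in
theorem st_st (hK : Fintype.card K = q ^ 2) (M : Matrix ι ι K) : st q (st q M) = M := by
  ext i j
  rw [st_apply, st_apply, pow_pow_q hK]

omit [DecidableEq ι] in
theorem st_mul (hK : Fintype.card K = q ^ 2) (M N : Matrix ι ι K) : st q (M * N) = st q N * st q M := by
  obtain ⟨σ, hσ⟩ := exists_powHom hK
  ext i j
  rw [st_apply, Matrix.mul_apply, Matrix.mul_apply, ← hσ, map_sum]
  refine Finset.sum_congr rfl fun k _ => ?_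
  rw [map_mul, hσ, hσ, st_apply, st_apply, mul_comm]

omit [Fintype ι] [DecidableEq ι] in
theorem st_add (hK : Fintype.card K = q ^ 2) (M N : Matrix ι ι K) : st q (M + N) = st q M + st q N := by
  obtain ⟨σ, hσ⟩ := exists_powHom hK
  ext i j
  rw [st_apply, Matrix.add_apply, Matrix.add_apply, ← hσ, map_add, hσ, hσ, st_apply, st_apply]

omit [Fintype ι] [DecidableEq ι] in
theorem st_smul (c : K) (M : Matrix ι ι K) : st q (c • M) = c ^ q • st q M := by
  ext i j
  rw [st_apply, Matrix.smul_apply, Matrix.smul_apply, smul_eq_mul, smul_eq_mul, mul_pow, st_apply]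

omit [Fintype ι] in
theorem st_one (hK : Fintype.card K = q ^ 2) : st q (1 : Matrix ι ι K) = 1 := by
  have hq := two_le hK
  ext i j
  rw [st_apply]
  by_cases h : i = j
  · subst h; simp
  · rw [Matrix.one_apply_ne h, Matrix.one_apply_ne (Ne.symm h), zero_pow (by omega)]

theorem st_algebraMap (hK : Fintype.card K = q ^ 2) (x : K) :
    st q (algebraMap K (Matrix ι ι K) x) = algebraMap K (Matrix ι ι K) (x ^ q) := by
  rw [Algebra.algebraMap_eq_smul_one, Algebra.algebraMap_eq_smul_one, st_smul, st_one hK]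

theorem exists_pow_ne (hK : Fintype.card K = q ^ 2) : ∃ x : K, x ^ q ≠ x := by
  by_contra hcon
  push Not at hcon
  have hq := two_le hK
  have h1 : (Polynomial.X ^ q - Polynomial.X : Polynomial K) ≠ 0 :=
    FiniteField.X_pow_card_sub_X_ne_zero K (by omega)
  have h2 : (Finset.univ : Finset K).card ≤ (Polynomial.X ^ q - Polynomial.X : Polynomial K).natDegree := by
    refine le_trans ?_ (Polynomial.card_roots' _)
    refine (Multiset.card_le_card ?_ : Multiset.card (Finset.univ : Finset K).val ≤ _)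
    rw [Finset.val_le_iff_val_subset]
    intro x _
    rw [Polynomial.mem_roots h1]
    simp [hcon x]
  rw [FiniteField.X_pow_card_sub_X_natDegree_eq K (by omega), Finset.card_univ, hK] at h2
  nlinarith

/-- Every invertible hermitian matrix `s` is `st q c * c`, with `c` a unit of `K[s]`. -/
theorem exists_st_mul (hK : Fintype.card K = q ^ 2) (s : Matrix ι ι K) (hs : IsUnit s) (hst : st q s = s) :
    ∃ c ∈ Algebra.adjoin K {s}, IsUnit c ∧ st q c * c = s := by
  have hfin : Finite (Matrix ι ι K) := Matrix.instFinite K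
  exact exists_norm_adjoin (A := Matrix ι ι K) (K := K) (fun M => st q M) (fun a b => st_add hK a b)
    (fun a b => st_mul hK a b) (fun a => st_st hK a) (fun x => x ^ q) (exists_pow_ne hK)
    (fun x => st_algebraMap hK x) s hs hst

/-- Two invertible matrices `g`, `g'`, isometries of the hermitian form with matrix `1`, which are conjugate by `x`
are conjugate by an isometry in `x · K[st x * x]`. -/
theorem exists_conj (hK : Fintype.card K = q ^ 2) (g g' x : Matrix ι ι K) (hg : st q g * g = 1)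
    (hg' : st q g' * g' = 1) (hx : IsUnit x) (h : x * g = g' * x) :
    ∃ y : Matrix ι ι K, st q y * y = 1 ∧ y * g = g' * y := by
  have h1 : st q g * st q x = st q x * st q g' := by rw [← st_mul hK, h, st_mul hK]
  have hg2 : g' * st q g' = 1 := mul_eq_one_comm.1 hg'
  have hcomm : g * (st q x * x) = (st q x * x) * g := by
    have h2 : st q g * (st q x * x) * g = st q x * x := by
      calc st q g * (st q x * x) * g = (st q g * st q x) * (x * g) := by simp only [mul_assoc]
        _ = st q x * (st q g' * g') * x := by rw [h1, h]; simp only [mul_assoc]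
        _ = st q x * x := by rw [hg', mul_one]
    have hg3 : g * st q g = 1 := mul_eq_one_comm.1 hg
    calc g * (st q x * x) = g * (st q g * (st q x * x) * g) := by rw [h2]
      _ = (g * st q g) * ((st q x * x) * g) := by simp only [mul_assoc]
      _ = (st q x * x) * g := by rw [hg3, one_mul]
  have hsx : IsUnit (st q x) := by
    obtain ⟨u, rfl⟩ := hx
    refine ⟨⟨st q (u : Matrix ι ι K), st q ((u⁻¹ : (Matrix ι ι K)ˣ) : Matrix ι ι K), ?_, ?_⟩, rfl⟩
    · rw [← st_mul hK, Units.inv_mul, st_one hK]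
    · rw [← st_mul hK, Units.mul_inv, st_one hK]
  obtain ⟨c, hcS, hcu, hc⟩ := exists_st_mul hK (st q x * x) (hsx.mul hx) (by rw [st_mul hK, st_st hK])
  have hgc : g * c = c * g := commute_adjoin (K := K) hcomm c hcS
  obtain ⟨d, rfl⟩ := hcu
  have hdd : (d : Matrix ι ι K) * ((d⁻¹ : (Matrix ι ι K)ˣ) : Matrix ι ι K) = 1 := Units.mul_inv d
  have hdd' : ((d⁻¹ : (Matrix ι ι K)ˣ) : Matrix ι ι K) * (d : Matrix ι ι K) = 1 := Units.inv_mul d
  set e : Matrix ι ι K := ((d⁻¹ : (Matrix ι ι K)ˣ) : Matrix ι ι K) with he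
  refine ⟨x * e, ?_, ?_⟩
  · have : st q e * st q (d : Matrix ι ι K) = 1 := by rw [← st_mul hK, hdd, st_one hK]
    calc st q (x * e) * (x * e) = st q e * (st q x * x) * e := by rw [st_mul hK]; simp only [mul_assoc]
      _ = (st q e * st q (d : Matrix ι ι K)) * (d * e) := by rw [← hc]; simp only [mul_assoc]
      _ = 1 := by rw [this, hdd, one_mul]
  · have hge : e * g = g * e := by
      calc e * g = e * (g * (d * e)) := by rw [hdd, mul_one]
        _ = e * (g * d) * e := by simp only [mul_assoc]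
        _ = (e * d) * g * e := by rw [hgc]; simp only [mul_assoc]
        _ = g * e := by rw [hdd', one_mul]
    rw [mul_assoc, hge, ← mul_assoc, h, mul_assoc]

/-- If `st A * x * A = x` with `x` invertible then `A` is conjugate to an isometry of the standard form. -/
theorem exists_isometry (hK : Fintype.card K = q ^ 2) (A x : Matrix ι ι K) (hx : IsUnit x) (hA : IsUnit A)
    (h : st q A * x * A = x) : ∃ y : Matrix ι ι K, IsUnit y ∧ ∃ B : Matrix ι ι K, st q B * B = 1 ∧ y * A = B * y := by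
  have hfin : Finite (Matrix ι ι K) := Matrix.instFinite K
  obtain ⟨x, rfl⟩ := hx
  obtain ⟨A, rfl⟩ := hA
  obtain ⟨c, hcS, hcu, hc⟩ := exists_symm (A := Matrix ι ι K) (K := K) (fun M => st q M)
    (fun a b => st_add hK a b) (fun a b => st_mul hK a b) (fun a => st_st hK a) (fun x => x ^ q)
    (exists_pow_ne hK) (fun x => st_algebraMap hK x) x
  have hxx : (x : Matrix ι ι K) * ((x⁻¹ : (Matrix ι ι K)ˣ) : Matrix ι ι K) = 1 := Units.mul_inv x
  have hxx' : ((x⁻¹ : (Matrix ι ι K)ˣ) : Matrix ι ι K) * (x : Matrix ι ι K) = 1 := Units.inv_mul x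
  have hAA : (A : Matrix ι ι K) * ((A⁻¹ : (Matrix ι ι K)ˣ) : Matrix ι ι K) = 1 := Units.mul_inv A
  have hAA' : ((A⁻¹ : (Matrix ι ι K)ˣ) : Matrix ι ι K) * (A : Matrix ι ι K) = 1 := Units.inv_mul A
  set xi : Matrix ι ι K := ((x⁻¹ : (Matrix ι ι K)ˣ) : Matrix ι ι K) with hxi
  set Ai : Matrix ι ι K := ((A⁻¹ : (Matrix ι ι K)ˣ) : Matrix ι ι K) with hAi
  have h' : st q (A : Matrix ι ι K) * st q (x : Matrix ι ι K) * (A : Matrix ι ι K) = st q (x : Matrix ι ι K) := by
    have := congrArg (st q) h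
    rw [st_mul hK, st_mul hK, st_st hK, ← mul_assoc] at this
    exact this
  -- `A` commutes with `x⁻¹ st x`
  have h1 : xi * st q (A : Matrix ι ι K) * x = Ai := by
    calc xi * st q (A : Matrix ι ι K) * x = xi * (st q (A : Matrix ι ι K) * x * A) * Ai := by
          rw [mul_assoc xi (_ * _ * _), mul_assoc _ (A : Matrix ι ι K), hAA, mul_one, mul_assoc]
      _ = Ai := by rw [h, hxx', one_mul]
  have hcomm : (A : Matrix ι ι K) * (xi * st q (x : Matrix ι ι K)) = (xi * st q (x : Matrix ι ι K)) * A := by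
    calc (A : Matrix ι ι K) * (xi * st q (x : Matrix ι ι K))
        = A * (xi * (st q (A : Matrix ι ι K) * st q (x : Matrix ι ι K) * (A : Matrix ι ι K))) := by rw [h']
      _ = A * (xi * st q (A : Matrix ι ι K) * (x * xi) * st q (x : Matrix ι ι K) * (A : Matrix ι ι K)) := by
          rw [hxx, mul_one]; simp only [mul_assoc]
      _ = A * ((xi * st q (A : Matrix ι ι K) * x) * xi * st q (x : Matrix ι ι K) * (A : Matrix ι ι K)) := by
          simp only [mul_assoc]
      _ = (xi * st q (x : Matrix ι ι K)) * A := by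
          rw [h1]
          calc (A : Matrix ι ι K) * (Ai * xi * st q (x : Matrix ι ι K) * A)
              = (A * Ai) * (xi * st q (x : Matrix ι ι K) * A) := by simp only [mul_assoc]
            _ = _ := by rw [hAA, one_mul]
  have hAc : (A : Matrix ι ι K) * c = c * A := commute_adjoin (K := K) hcomm c hcS
  have hH : st q (A : Matrix ι ι K) * (x * c) * A = x * c := by
    calc st q (A : Matrix ι ι K) * (x * c) * A = st q (A : Matrix ι ι K) * x * (c * A) := by simp only [mul_assoc]
      _ = (st q (A : Matrix ι ι K) * x * A) * c := by rw [← hAc]; simp only [mul_assoc]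
      _ = x * c := by rw [h]
  obtain ⟨y, -, hyu, hy⟩ := exists_st_mul hK ((x : Matrix ι ι K) * c) (x.isUnit.mul hcu) hc
  obtain ⟨y, rfl⟩ := hyu
  have hyy : (y : Matrix ι ι K) * ((y⁻¹ : (Matrix ι ι K)ˣ) : Matrix ι ι K) = 1 := Units.mul_inv y
  have hyy' : ((y⁻¹ : (Matrix ι ι K)ˣ) : Matrix ι ι K) * (y : Matrix ι ι K) = 1 := Units.inv_mul y
  set yi : Matrix ι ι K := ((y⁻¹ : (Matrix ι ι K)ˣ) : Matrix ι ι K) with hyi
  refine ⟨y, y.isUnit, (y : Matrix ι ι K) * (A : Matrix ι ι K) * yi, ?_, ?_⟩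
  · have h2 : st q yi * st q (y : Matrix ι ι K) = 1 := by rw [← st_mul hK, hyy, st_one hK]
    calc st q ((y : Matrix ι ι K) * (A : Matrix ι ι K) * yi) * ((y : Matrix ι ι K) * (A : Matrix ι ι K) * yi)
        = st q yi * (st q (A : Matrix ι ι K) * (st q (y : Matrix ι ι K) * (y : Matrix ι ι K)) *
            (A : Matrix ι ι K)) * yi := by
          rw [st_mul hK, st_mul hK]; simp only [mul_assoc]
      _ = (st q yi * st q (y : Matrix ι ι K)) * ((y : Matrix ι ι K) * yi) := by
          rw [hy, hH, ← hy]; simp only [mul_assoc]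
      _ = 1 := by rw [h2, hyy, one_mul]
  · rw [mul_assoc (y * (A : Matrix ι ι K)), hyy', mul_one]

end St

section GU

variable {K : Type*} [Field K] [Fintype K] {q n : ℕ}

theorem mem_GU_iff_st (hK : Fintype.card K = q ^ 2) (g : GL (Fin n) K) :
    g ∈ Cfsg.GU n K q ↔ st q (g : Matrix (Fin n) (Fin n) K) * (g : Matrix (Fin n) (Fin n) K) = 1 := by
  have hq := two_le hK
  constructor
  · intro h
    have h1 := transpose_mul_map (by omega) ((mem_GU_iff g).1 h)
    have h2 := congrArg (st q) h1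
    rw [st_mul hK, st_one hK] at h2
    have h3 : st q ((g : Matrix (Fin n) (Fin n) K)ᵀ) = (g : Matrix (Fin n) (Fin n) K).map (fun x => x ^ q) := by
      ext i j; rfl
    have h4 : st q ((g : Matrix (Fin n) (Fin n) K).map (fun x => x ^ q)) = (g : Matrix (Fin n) (Fin n) K)ᵀ := by
      ext i j
      rw [st_apply, Matrix.map_apply, pow_pow_q hK, Matrix.transpose_apply]
    rw [h3, h4] at h2
    have h5 := congrArg Matrix.transpose h1
    rw [Matrix.transpose_mul, Matrix.transpose_transpose, Matrix.transpose_one] at h5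
    exact h5
  · intro h
    rw [mem_GU_iff]
    intro u v
    obtain ⟨σ, hσ⟩ := exists_powHom hK
    have h1 : (g : Matrix (Fin n) (Fin n) K)ᵀ * (g : Matrix (Fin n) (Fin n) K).map (fun x => x ^ q) = 1 := by
      have h5 := congrArg Matrix.transpose h
      rw [Matrix.transpose_mul, Matrix.transpose_one] at h5
      exact h5
    have h6 : ∀ u v : Fin n → K, hermForm n K q u v = u ⬝ᵥ (fun i => (v i) ^ q) := fun u v => rfl
    rw [h6, h6]
    have h7 : (fun i => ((g : Matrix (Fin n) (Fin n) K) *ᵥ v) i ^ q) =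
        (g : Matrix (Fin n) (Fin n) K).map (fun x => x ^ q) *ᵥ (fun i => (v i) ^ q) := by
      funext i
      rw [← hσ]
      simp only [Matrix.mulVec, dotProduct, Matrix.map_apply]
      rw [map_sum]
      refine Finset.sum_congr rfl fun k _ => ?_
      rw [map_mul, hσ, hσ]
    rw [h7, Matrix.dotProduct_mulVec, ← Matrix.mulVec_transpose, Matrix.mulVec_mulVec]
    have h8 : ((g : Matrix (Fin n) (Fin n) K).map (fun x => x ^ q))ᵀ * (g : Matrix (Fin n) (Fin n) K) = 1 := h
    rw [h8, Matrix.one_mulVec]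

/-- Statement S2587. -/
theorem gu_isConj_iff (hK : Fintype.card K = q ^ 2) (A B : ↥(Cfsg.GU n K q)) :
    IsConj A B ↔ IsConj (A : GL (Fin n) K) (B : GL (Fin n) K) := by
  constructor
  · intro h
    exact MonoidHom.map_isConj (Cfsg.GU n K q).subtype h
  · intro h
    rw [isConj_iff] at h
    obtain ⟨x, hx⟩ := h
    have hx' : (x : Matrix (Fin n) (Fin n) K) * ((A : GL (Fin n) K) : Matrix (Fin n) (Fin n) K) =
        ((B : GL (Fin n) K) : Matrix (Fin n) (Fin n) K) * (x : Matrix (Fin n) (Fin n) K) := by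
      have h1 : x * (A : GL (Fin n) K) = (B : GL (Fin n) K) * x := by rw [← hx]; group
      exact congrArg Units.val h1
    obtain ⟨y, hy, hyc⟩ := exists_conj hK _ _ _ ((mem_GU_iff_st hK _).1 A.2) ((mem_GU_iff_st hK _).1 B.2)
      x.isUnit hx'
    let Y : GL (Fin n) K := ⟨y, st q y, mul_eq_one_comm.1 hy, hy⟩
    have hY : Y ∈ Cfsg.GU n K q := (mem_GU_iff_st hK Y).2 hy
    rw [isConj_iff]
    refine ⟨⟨Y, hY⟩, ?_⟩
    rw [mul_inv_eq_iff_eq_mul]
    apply Subtype.ext
    apply Units.ext
    exact hyc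

/-- Statement S2588. -/
theorem exists_isConj_iff (hK : Fintype.card K = q ^ 2) (A : GL (Fin n) K) :
    (∃ B : ↥(Cfsg.GU n K q), IsConj A (B : GL (Fin n) K)) ↔
      IsConj (A : Matrix (Fin n) (Fin n) K) (((A : Matrix (Fin n) (Fin n) K).map (fun x : K => x ^ q)).transpose)⁻¹ := by
  change _ ↔ IsConj (A : Matrix (Fin n) (Fin n) K) (st q (A : Matrix (Fin n) (Fin n) K))⁻¹
  have hAst : (st q (A : Matrix (Fin n) (Fin n) K)) * (st q ((A⁻¹ : GL (Fin n) K) : Matrix (Fin n) (Fin n) K)) = 1 := by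
    rw [← st_mul hK, Units.inv_mul, st_one hK]
  have hAst' : (st q ((A⁻¹ : GL (Fin n) K) : Matrix (Fin n) (Fin n) K)) * (st q (A : Matrix (Fin n) (Fin n) K)) = 1 := by
    rw [← st_mul hK, Units.mul_inv, st_one hK]
  have hinv : (st q (A : Matrix (Fin n) (Fin n) K))⁻¹ = st q ((A⁻¹ : GL (Fin n) K) : Matrix (Fin n) (Fin n) K) :=
    Matrix.inv_eq_right_inv hAst
  rw [hinv]
  constructor
  · rintro ⟨B, hB⟩
    obtain ⟨x, hx⟩ := hB
    have hB2 := (mem_GU_iff_st hK _).1 B.2
    have h1 : (((x : (GL (Fin n) K)ˣ) : GL (Fin n) K) : Matrix (Fin n) (Fin n) K) * (A : Matrix (Fin n) (Fin n) K) =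
        ((B : GL (Fin n) K) : Matrix (Fin n) (Fin n) K) *
          (((x : (GL (Fin n) K)ˣ) : GL (Fin n) K) : Matrix (Fin n) (Fin n) K) :=
      congrArg Units.val hx
    have hXu : IsUnit (((x : (GL (Fin n) K)ˣ) : GL (Fin n) K) : Matrix (Fin n) (Fin n) K) :=
      Units.isUnit ((x : (GL (Fin n) K)ˣ) : GL (Fin n) K)
    set X : Matrix (Fin n) (Fin n) K := (((x : (GL (Fin n) K)ˣ) : GL (Fin n) K) : Matrix (Fin n) (Fin n) K) with hX
    -- `st A * (st X * X) * A = st X * X`
    have h2 : st q (A : Matrix (Fin n) (Fin n) K) * (st q X * X) * (A : Matrix (Fin n) (Fin n) K) = st q X * X := by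
      calc st q (A : Matrix (Fin n) (Fin n) K) * (st q X * X) * (A : Matrix (Fin n) (Fin n) K)
          = st q (X * (A : Matrix (Fin n) (Fin n) K)) * (X * (A : Matrix (Fin n) (Fin n) K)) := by
            rw [st_mul hK]; simp only [mul_assoc]
        _ = st q X * (st q ((B : GL (Fin n) K) : Matrix (Fin n) (Fin n) K) *
              ((B : GL (Fin n) K) : Matrix (Fin n) (Fin n) K)) * X := by
            rw [h1, st_mul hK]; simp only [mul_assoc]
        _ = st q X * X := by rw [hB2, mul_one]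
    have hsx : IsUnit (st q X) := by
      obtain ⟨u, hu⟩ := hXu
      rw [← hu]
      refine ⟨⟨st q (u : Matrix (Fin n) (Fin n) K), st q ((u⁻¹ : (Matrix (Fin n) (Fin n) K)ˣ) : Matrix (Fin n) (Fin n) K), ?_, ?_⟩, rfl⟩
      · rw [← st_mul hK, Units.inv_mul, st_one hK]
      · rw [← st_mul hK, Units.mul_inv, st_one hK]
    obtain ⟨w, hw⟩ := hsx.mul hXu
    refine ⟨w, ?_⟩
    change (w : Matrix (Fin n) (Fin n) K) * (A : Matrix (Fin n) (Fin n) K) = st q _ * (w : Matrix (Fin n) (Fin n) K)
    rw [hw]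
    calc st q X * X * (A : Matrix (Fin n) (Fin n) K)
        = (st q ((A⁻¹ : GL (Fin n) K) : Matrix (Fin n) (Fin n) K) * st q (A : Matrix (Fin n) (Fin n) K)) *
            (st q X * X * (A : Matrix (Fin n) (Fin n) K)) := by rw [hAst', one_mul]
      _ = st q ((A⁻¹ : GL (Fin n) K) : Matrix (Fin n) (Fin n) K) *
            (st q (A : Matrix (Fin n) (Fin n) K) * (st q X * X) * (A : Matrix (Fin n) (Fin n) K)) := by
          simp only [mul_assoc]
      _ = _ := by rw [h2]
  · rintro ⟨w, hw⟩
    have hw' : (w : Matrix (Fin n) (Fin n) K) * (A : Matrix (Fin n) (Fin n) K) =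
        st q ((A⁻¹ : GL (Fin n) K) : Matrix (Fin n) (Fin n) K) * (w : Matrix (Fin n) (Fin n) K) := hw
    have h1 : st q (A : Matrix (Fin n) (Fin n) K) * (w : Matrix (Fin n) (Fin n) K) *
        (A : Matrix (Fin n) (Fin n) K) = w := by
      rw [mul_assoc, hw', ← mul_assoc, hAst, one_mul]
    obtain ⟨y, hyu, B, hB, hyB⟩ := exists_isometry hK _ _ w.isUnit A.isUnit h1
    let B' : GL (Fin n) K := ⟨B, st q B, mul_eq_one_comm.1 hB, hB⟩
    obtain ⟨y, rfl⟩ := hyu
    refine ⟨⟨B', (mem_GU_iff_st hK B').2 hB⟩, ?_⟩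
    rw [isConj_iff]
    refine ⟨y, ?_⟩
    rw [mul_inv_eq_iff_eq_mul]
    apply Units.ext
    exact hyB

end GU

end Cfsg.Agent.H186
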