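import Cfsg.Agent.H174.UnipClass
import Cfsg.Agent.H186.Unitary

/-!
# Unipotent classes of the finite unitary groups (helper186)

* `rank_map_pow`, `rank_st` : the rank of `M.map (· ^ q)` and of `st q M` is the rank of `M`;
* `exists_gu_unip` : every unipotent element of `GL n K` is conjugate to an element of `GU n K q`.
-/

set_option autoImplicit false
open Cfsg Matrix

namespace Cfsg.Agent.H186

open Cfsg.Agent.ClassicalGeometry.GUBasic

variable {K : Type*} [Field K] [Fintype K] {q n : ℕ}

theorem rank_map_pow (hK : Fintype.card K = q ^ 2) (M : Matrix (Fin n) (Fin n) K) :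
    (M.map (fun x => x ^ q)).rank = M.rank := by
  obtain ⟨σ, hσ⟩ := exists_powHom hK
  have hσi : Function.Injective σ := σ.injective
  have hσs : Function.Surjective σ := Finite.injective_iff_surjective.1 hσi
  have hmv : ∀ v : Fin n → K, (M.map (fun x => x ^ q)) *ᵥ (fun i => σ (v i)) = fun i => σ ((M *ᵥ v) i) := by
    intro v
    funext i
    simp only [Matrix.mulVec, dotProduct, Matrix.map_apply]
    rw [map_sum]
    refine Finset.sum_congr rfl fun k _ => ?_
    rw [map_mul, hσ (M i k)]
  let e : ↥(LinearMap.range M.mulVecLin) → ↥(LinearMap.range (M.map (fun x => x ^ q)).mulVecLin) :=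
    fun w => ⟨fun i => σ ((w : Fin n → K) i), by
      obtain ⟨v, hv⟩ := w.2
      refine ⟨fun i => σ (v i), ?_⟩
      rw [Matrix.mulVecLin_apply, hmv, ← hv]
      rfl⟩
  have he : Function.Bijective e := by
    constructor
    · intro a b hab
      apply Subtype.ext
      funext i
      have h1 := congrFun (congrArg Subtype.val hab) i
      exact hσi h1
    · rintro ⟨w, hw⟩
      obtain ⟨v, rfl⟩ := hw
      choose u hu using fun i => hσs (v i)
      refine ⟨⟨M *ᵥ u, ⟨u, rfl⟩⟩, ?_⟩
      apply Subtype.ext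
      change (fun i => σ ((M *ᵥ u) i)) = (M.map (fun x => x ^ q)) *ᵥ v
      rw [← hmv]
      congr 1
      funext i
      exact hu i
  have hcard := Nat.card_eq_of_bijective e he
  rw [Module.natCard_eq_pow_finrank (K := K) (V := ↥(LinearMap.range M.mulVecLin)),
    Module.natCard_eq_pow_finrank (K := K) (V := ↥(LinearMap.range (M.map (fun x => x ^ q)).mulVecLin))] at hcard
  have h1 : 1 < Nat.card K := by
    rw [Nat.card_eq_fintype_card]
    exact Fintype.one_lt_card
  exact (Nat.pow_right_injective h1 hcard).symm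

theorem rank_st (hK : Fintype.card K = q ^ 2) (M : Matrix (Fin n) (Fin n) K) :
    (st q M).rank = M.rank := by
  rw [st, Matrix.rank_transpose, rank_map_pow hK]

theorem st_pow (hK : Fintype.card K = q ^ 2) (M : Matrix (Fin n) (Fin n) K) (k : ℕ) :
    st q (M ^ k) = st q M ^ k := by
  induction k with
  | zero => rw [pow_zero, pow_zero, st_one hK]
  | succ k ih => rw [pow_succ, st_mul hK, ih, pow_succ']

/-- Every unipotent element of `GL n K` is conjugate to a unitary one. -/
theorem exists_gu_unip (hK : Fintype.card K = q ^ 2) (A : GL (Fin n) K)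
    (hA : IsNilpotent ((A : Matrix (Fin n) (Fin n) K) - 1)) :
    ∃ B : ↥(Cfsg.GU n K q), IsConj A (B : GL (Fin n) K) := by
  have h11 : st q ((A⁻¹ : GL (Fin n) K) : Matrix (Fin n) (Fin n) K) * st q (A : Matrix (Fin n) (Fin n) K) = 1 := by
    rw [← st_mul hK, Units.mul_inv, st_one hK]
  have h12 : st q (A : Matrix (Fin n) (Fin n) K) * st q ((A⁻¹ : GL (Fin n) K) : Matrix (Fin n) (Fin n) K) = 1 := by
    rw [← st_mul hK, Units.inv_mul, st_one hK]
  let B : GL (Fin n) K := ⟨st q ((A⁻¹ : GL (Fin n) K) : Matrix (Fin n) (Fin n) K),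
    st q (A : Matrix (Fin n) (Fin n) K), h11, h12⟩
  have hBv : (B : Matrix (Fin n) (Fin n) K) = st q ((A⁻¹ : GL (Fin n) K) : Matrix (Fin n) (Fin n) K) := rfl
  set N : Matrix (Fin n) (Fin n) K := (A : Matrix (Fin n) (Fin n) K) - 1 with hN
  have hA1 : (A : Matrix (Fin n) (Fin n) K) = N + 1 := by rw [hN]; abel
  have hstA : st q (A : Matrix (Fin n) (Fin n) K) = st q N + 1 := by
    rw [hA1, st_add hK, st_one hK]
  -- `B - 1 = - st N * B`
  have hB1 : (B : Matrix (Fin n) (Fin n) K) - 1 = -(st q N * B) := by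
    have : (st q N + 1) * (B : Matrix (Fin n) (Fin n) K) = 1 := by rw [← hstA, hBv, h12]
    have h2 : st q N * (B : Matrix (Fin n) (Fin n) K) + B = 1 := by rw [← this, add_mul, one_mul]
    rw [eq_comm, neg_eq_iff_add_eq_zero, ← add_sub_assoc, h2, sub_self]
  have hcomm : Commute (st q N) (B : Matrix (Fin n) (Fin n) K) := by
    have h1 : Commute (st q (A : Matrix (Fin n) (Fin n) K)) (B : Matrix (Fin n) (Fin n) K) := by
      change _ * _ = _ * _
      rw [hBv, h11, h12]
    have h2 : st q N = st q (A : Matrix (Fin n) (Fin n) K) - 1 := by rw [hstA]; abel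
    rw [h2]
    exact h1.sub_left (Commute.one_left _)
  have hBpow : ∀ k : ℕ, ((B : Matrix (Fin n) (Fin n) K) - 1) ^ k = (-1) ^ k * (st q (N ^ k) * (B : Matrix (Fin n) (Fin n) K) ^ k) := by
    intro k
    rw [hB1, neg_pow, hcomm.mul_pow, st_pow hK]
  have hrank : ∀ k : ℕ, (((B : Matrix (Fin n) (Fin n) K) - 1) ^ k).rank = (N ^ k).rank := by
    intro k
    rw [hBpow k, ← rank_st hK (N ^ k)]
    have hu1 : IsUnit ((-1 : Matrix (Fin n) (Fin n) K) ^ k) := (isUnit_one.neg).pow k
    have hu2 : IsUnit ((B : Matrix (Fin n) (Fin n) K) ^ k) := B.isUnit.pow k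
    rw [Matrix.rank_mul_eq_right_of_isUnit_det _ _ ((Matrix.isUnit_iff_isUnit_det _).1 hu1),
      Matrix.rank_mul_eq_left_of_isUnit_det _ _ ((Matrix.isUnit_iff_isUnit_det _).1 hu2)]
  have hBnil : IsNilpotent ((B : Matrix (Fin n) (Fin n) K) - 1) := by
    obtain ⟨m, hm⟩ := hA
    refine ⟨m, ?_⟩
    rw [hBpow m, hm]
    have : st q (0 : Matrix (Fin n) (Fin n) K) = 0 := by
      have h := st_add (q := q) hK (0 : Matrix (Fin n) (Fin n) K) 0
      rw [add_zero] at h
      exact left_eq_add.1 h
    rw [this, zero_mul, mul_zero]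
  obtain ⟨μ, hμ⟩ := H174.exists_partition hA
  obtain ⟨ν, hν⟩ := H174.exists_partition hBnil
  have hμν : μ.parts = ν.parts := by
    ext j
    rcases Nat.eq_zero_or_pos j with rfl | hj
    · rw [Multiset.count_eq_zero.2 (fun h => (μ.parts_pos h).false),
        Multiset.count_eq_zero.2 (fun h => (ν.parts_pos h).false)]
    · obtain ⟨i, rfl⟩ : ∃ i, j = i + 1 := ⟨j - 1, by omega⟩
      have h1 := hμ.count_eq i
      have h2 := hν.count_eq i
      have h3 : ∀ (g : GL (Fin n) K) (k : ℕ), Module.finrank K (LinearMap.range ((H174.nilOf g) ^ k)) =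
          (((g : Matrix (Fin n) (Fin n) K) - 1) ^ k).rank := by
        intro g k
        rw [H174.nilOf, ← Matrix.toLin'_pow]
        rfl
      simp only [h3] at h1 h2
      simp only [hrank] at h2
      rw [← hN] at h1
      omega
  have hconj : IsConj A B := H174.isConj_of_isJT hμ (by rw [hμν]; exact hν)
  refine (exists_isConj_iff hK A).2 ?_
  have hBi : (((A : Matrix (Fin n) (Fin n) K).map (fun x : K => x ^ q)).transpose)⁻¹ =
      (B : Matrix (Fin n) (Fin n) K) := by
    refine Matrix.inv_eq_right_inv ?_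
    exact h12
  rw [hBi]
  obtain ⟨c, hc⟩ := isConj_iff.1 hconj
  refine ⟨c, ?_⟩
  change (c : Matrix (Fin n) (Fin n) K) * (A : Matrix (Fin n) (Fin n) K) = (B : Matrix (Fin n) (Fin n) K) * (c : Matrix (Fin n) (Fin n) K)
  have h5 : c * A = B * c := by rw [← hc]; group
  exact congrArg Units.val h5

end Cfsg.Agent.H186
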