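import Mathlib
import Cfsg.Prelude.Def_Classical
import Cfsg.Prelude.Def_LieClassical
import Cfsg.Agent.ClassicalGeometry.GUBasic
import Cfsg.Agent.ClassicalGeometry.SympBasic

/-!
# Restriction of scalars from the field with `q²` elements to the field with `q` elements (helper186)

* `exists_ringHom` : `|K| = q²`, `|F| = q` ⟹ there is a ring homomorphism `i : F →+* K`;
* `Base i q` : `i : F →+* K`, `|K| = q²`, `|F| = q`; `Base.mem_range`, `Base.exists_coords`, `Base.exists_trace`,
  `Base.exists_root` (roots of anisotropic forms);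
* `resMat` : for an additive bijection `e : (ι → K) ≃+ (κ → F)`, semilinear along `i`, the injective homomorphism
  `Matrix ι ι K →* Matrix κ κ F` with `resMat M *ᵥ e v = e (M *ᵥ v)`;
* `exists_hom_isometry`, `exists_hom_symplectic` : the resulting embeddings of isometry groups.
-/

set_option autoImplicit false
open Cfsg Matrix

namespace Cfsg.Agent.H186

open Cfsg.Agent.ClassicalGeometry.GUBasic

section Res

variable {K F : Type*} [Field K] [Field F] (i : F →+* K) {ι κ : Type*} [Fintype ι] [DecidableEq ι] [Fintype κ]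
  [DecidableEq κ]

/-- The `F`-linear map of `κ → F` given by a matrix over `K`. -/
def resLin (e : (ι → K) ≃+ (κ → F)) (he : ∀ (c : F) (v : ι → K), e (i c • v) = c • e v) (M : Matrix ι ι K) :
    (κ → F) →ₗ[F] (κ → F) where
  toFun w := e (M *ᵥ e.symm w)
  map_add' u v := by rw [map_add, Matrix.mulVec_add, map_add]
  map_smul' c v := by
    have h : e.symm (c • v) = i c • e.symm v := by
      rw [AddEquiv.symm_apply_eq, he, AddEquiv.apply_symm_apply]
    rw [h, Matrix.mulVec_smul, he, RingHom.id_apply]

/-- The matrix over `F` of the restriction of scalars of a matrix over `K`. -/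
noncomputable def resMat (e : (ι → K) ≃+ (κ → F)) (he : ∀ (c : F) (v : ι → K), e (i c • v) = c • e v) :
    Matrix ι ι K →* Matrix κ κ F where
  toFun M := LinearMap.toMatrix' (resLin i e he M)
  map_one' := by
    have : resLin i e he 1 = LinearMap.id := by
      apply LinearMap.ext
      intro w
      change e ((1 : Matrix ι ι K) *ᵥ e.symm w) = w
      rw [Matrix.one_mulVec, AddEquiv.apply_symm_apply]
    rw [this, LinearMap.toMatrix'_id]
  map_mul' M N := by
    rw [← LinearMap.toMatrix'_comp]
    congr 1
    apply LinearMap.ext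
    intro w
    change e ((M * N) *ᵥ e.symm w) = e (M *ᵥ e.symm (e (N *ᵥ e.symm w)))
    rw [AddEquiv.symm_apply_apply, Matrix.mulVec_mulVec]

theorem resMat_mulVec (e : (ι → K) ≃+ (κ → F)) (he : ∀ (c : F) (v : ι → K), e (i c • v) = c • e v)
    (M : Matrix ι ι K) (v : ι → K) : resMat i e he M *ᵥ e v = e (M *ᵥ v) := by
  change LinearMap.toMatrix' (resLin i e he M) *ᵥ e v = _
  rw [LinearMap.toMatrix'_mulVec]
  change e (M *ᵥ e.symm (e v)) = _
  rw [AddEquiv.symm_apply_apply]

theorem resMat_injective (e : (ι → K) ≃+ (κ → F)) (he : ∀ (c : F) (v : ι → K), e (i c • v) = c • e v) :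
    Function.Injective (resMat i e he) := by
  intro M N h
  apply Matrix.ext_of_mulVec_single
  intro j
  apply e.injective
  rw [← resMat_mulVec i e he, ← resMat_mulVec i e he, h]

/-- Embedding of a matrix group over `K` into an isometry group over `F`. -/
theorem exists_hom_isometry {κ : Type} [Fintype κ] [DecidableEq κ] (e : (ι → K) ≃+ (κ → F))
    (he : ∀ (c : F) (v : ι → K), e (i c • v) = c • e v)
    (H : Subgroup (GL ι K)) (Q : (κ → F) → F)
    (hQ : ∀ g ∈ H, ∀ v, Q (e ((g : Matrix ι ι K) *ᵥ v)) = Q (e v)) :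
    ∃ φ : ↥H →* ↥(Cfsg.isometryGroup F Q), Function.Injective φ := by
  let Φ : GL ι K →* GL κ F := Units.map (resMat i e he)
  have hΦ : ∀ g : ↥H, Φ (g : GL ι K) ∈ Cfsg.isometryGroup F Q := by
    intro g u v
    change Q (resMat i e he ((g : GL ι K) : Matrix ι ι K) *ᵥ u) = Q u
    obtain ⟨w, rfl⟩ := e.surjective u
    rw [resMat_mulVec, hQ g g.2]
  refine ⟨(Φ.comp H.subtype).codRestrict _ hΦ, ?_⟩
  intro a b h
  apply Subtype.ext
  apply Units.ext
  apply resMat_injective i e he
  have := congrArg (fun x : ↥(Cfsg.isometryGroup F Q) => ((x : GL κ F) : Matrix κ κ F)) h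
  exact this

/-- Embedding of a matrix group over `K` into the symplectic group over `F`. -/
theorem exists_hom_symplectic {m : ℕ} (e : (ι → K) ≃+ (Fin m ⊕ Fin m → F))
    (he : ∀ (c : F) (v : ι → K), e (i c • v) = c • e v) {H : Type*} [Group H] (r : H →* Matrix ι ι K)
    (hr : Function.Injective r)
    (hQ : ∀ (g : H) (u v : ι → K), sympForm m F (e (r g *ᵥ u)) (e (r g *ᵥ v)) = sympForm m F (e u) (e v)) :
    ∃ φ : H →* ↥(Matrix.symplecticGroup (Fin m) F), Function.Injective φ := by
  have hΦ : ∀ g : H, resMat i e he (r g) ∈ Matrix.symplecticGroup (Fin m) F := by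
    intro g
    rw [Cfsg.Agent.ClassicalGeometry.SympBasic.mem_symplecticGroup_iff]
    intro u v
    obtain ⟨u, rfl⟩ := e.surjective u
    obtain ⟨v, rfl⟩ := e.surjective v
    rw [resMat_mulVec, resMat_mulVec, hQ]
  refine ⟨((resMat i e he).comp r).codRestrict (Matrix.symplecticGroup (Fin m) F) hΦ, ?_⟩
  intro a b h
  apply hr
  apply resMat_injective i e he
  exact congrArg Subtype.val h

end Res

section Base

variable {K F : Type*} [Field K] [Fintype K] [Field F] [Fintype F] {q : ℕ}

/-- The field with `q` elements embeds in the field with `q²` elements. -/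
theorem exists_ringHom (hK : Fintype.card K = q ^ 2) (hF : Fintype.card F = q) : Nonempty (F →+* K) := by
  obtain ⟨p, hp⟩ := CharP.exists F
  obtain ⟨n, hpp, hn⟩ := FiniteField.card F p
  haveI : Fact p.Prime := ⟨hpp⟩
  obtain ⟨p', hp'⟩ := CharP.exists K
  obtain ⟨n', hpp', hn'⟩ := FiniteField.card K p'
  have hpeq : p = p' := by
    have h1 : p ∣ p' ^ (n' : ℕ) := by
      rw [← hn', hK, ← hF, hn]
      exact dvd_pow (dvd_pow_self p n.ne_zero) two_ne_zero
    exact (Nat.prime_dvd_prime_iff_eq hpp hpp').1 (hpp.dvd_of_dvd_pow h1)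
  subst hpeq
  have hnn : (n' : ℕ) = 2 * n := by
    have : p ^ (n' : ℕ) = p ^ (2 * (n : ℕ)) := by
      rw [← hn', hK, ← hF, hn, ← pow_mul, mul_comm]
    exact Nat.pow_right_injective hpp.two_le this
  letI : Algebra (ZMod p) F := ZMod.algebra F p
  letI : Algebra (ZMod p) K := ZMod.algebra K p
  have hf : Module.finrank (ZMod p) F = n := by
    have := Module.card_eq_pow_finrank (K := ZMod p) (V := F)
    rw [ZMod.card, hn] at this
    exact (Nat.pow_right_injective hpp.two_le this).symm
  have hk : Module.finrank (ZMod p) K = n' := by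
    have := Module.card_eq_pow_finrank (K := ZMod p) (V := K)
    rw [ZMod.card, hn'] at this
    exact (Nat.pow_right_injective hpp.two_le this).symm
  have hdvd : Module.finrank (ZMod p) F ∣ Module.finrank (ZMod p) K := by
    rw [hf, hk, hnn]; exact dvd_mul_left _ _
  obtain ⟨g⟩ := FiniteField.nonempty_algHom_of_finrank_dvd hdvd
  exact ⟨g.toRingHom⟩

/-- `F` is the field with `q` elements and `K` the field with `q²` elements, `i : F →+* K`. -/
structure Base (i : F →+* K) (q : ℕ) : Prop where
  cardK : Fintype.card K = q ^ 2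
  cardF : Fintype.card F = q

variable {i : F →+* K}

theorem Base.pow_i (h : Base i q) (c : F) : (i c) ^ q = i c := by
  rw [← map_pow, ← h.cardF, FiniteField.pow_card]

theorem Base.two_le (h : Base i q) : 2 ≤ q := Cfsg.Agent.ClassicalGeometry.GUBasic.two_le h.cardK

theorem Base.mem_range (h : Base i q) {z : K} (hz : z ^ q = z) : ∃ c : F, i c = z := by
  classical
  have hq := h.two_le
  have h1 : (Polynomial.X ^ q - Polynomial.X : Polynomial K) ≠ 0 :=
    FiniteField.X_pow_card_sub_X_ne_zero K (by omega)
  have h2 : Multiset.card (Polynomial.X ^ q - Polynomial.X : Polynomial K).roots ≤ q := by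
    refine (Polynomial.card_roots' _).trans ?_
    rw [FiniteField.X_pow_card_sub_X_natDegree_eq K (by omega)]
  have hsub : (Finset.univ.image i) ⊆ (Polynomial.X ^ q - Polynomial.X : Polynomial K).roots.toFinset := by
    intro x hx
    rw [Finset.mem_image] at hx
    obtain ⟨c, -, rfl⟩ := hx
    rw [Multiset.mem_toFinset, Polynomial.mem_roots h1]
    simp [h.pow_i c]
  have hcard : (Finset.univ.image i).card = q := by
    rw [Finset.card_image_of_injective _ i.injective, Finset.card_univ, h.cardF]
  have heq : (Finset.univ.image i) = (Polynomial.X ^ q - Polynomial.X : Polynomial K).roots.toFinset := by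
    apply Finset.eq_of_subset_of_card_le hsub
    rw [hcard]
    exact (Multiset.toFinset_card_le _).trans h2
  have hz' : z ∈ (Polynomial.X ^ q - Polynomial.X : Polynomial K).roots.toFinset := by
    rw [Multiset.mem_toFinset, Polynomial.mem_roots h1]
    simp [hz]
  rw [← heq, Finset.mem_image] at hz'
  obtain ⟨c, -, hc⟩ := hz'
  exact ⟨c, hc⟩

theorem Base.pow_pow (h : Base i q) (x : K) : (x ^ q) ^ q = x := by
  rw [← pow_mul, ← sq, ← h.cardK, FiniteField.pow_card]

/-- The trace as an additive map. -/
theorem Base.exists_trace (h : Base i q) : ∃ T : K →+ F, (∀ x, i (T x) = x + x ^ q) ∧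
    ∀ c x, T (i c * x) = c * T x := by
  obtain ⟨σ, hσ⟩ := exists_powHom h.cardK
  have hex : ∀ x : K, ∃ c : F, i c = x + x ^ q := by
    intro x
    apply h.mem_range
    rw [← hσ, map_add, hσ, hσ, h.pow_pow, add_comm]
  choose T hT using hex
  refine ⟨AddMonoidHom.mk' T ?_, hT, ?_⟩
  · intro a b
    apply i.injective
    rw [map_add, hT, hT, hT, ← hσ, ← hσ, ← hσ, map_add]
    ring
  · intro c x
    apply i.injective
    change i (T (i c * x)) = i (c * T x)
    rw [map_mul, hT, hT, mul_pow, h.pow_i]
    ring

/-- Coordinates with respect to the basis `1, ω`. -/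
theorem Base.exists_coords (h : Base i q) {ω : K} (hω : ω ^ q ≠ ω) : ∃ A B : K →+ F,
    (∀ x, x = i (A x) + i (B x) * ω) ∧ (∀ c x, A (i c * x) = c * A x) ∧ (∀ c x, B (i c * x) = c * B x) := by
  let f : F × F →+ K :=
    { toFun := fun z => i z.1 + i z.2 * ω
      map_zero' := by simp
      map_add' := by intro a b; simp only [Prod.fst_add, Prod.snd_add, map_add]; ring }
  have hf : ∀ z, f z = i z.1 + i z.2 * ω := fun _ => rfl
  have hinj : Function.Injective f := by
    rw [injective_iff_map_eq_zero]
    intro z hz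
    rw [hf] at hz
    have h2 : z.2 = 0 := by
      by_contra hne
      apply hω
      have h3 : ω = i (-z.1 / z.2) := by
        rw [map_div₀, map_neg, eq_div_iff (by rwa [Ne, map_eq_zero])]
        linear_combination hz
      rw [h3, h.pow_i]
    rw [h2, map_zero, zero_mul, add_zero, map_eq_zero] at hz
    exact Prod.ext hz h2
  have hbij : Function.Bijective f := by
    rw [Fintype.bijective_iff_injective_and_card]
    exact ⟨hinj, by rw [Fintype.card_prod, h.cardF, h.cardK, sq]⟩
  let E := AddEquiv.ofBijective f hbij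
  have hE : ∀ x, f (E.symm x) = x := fun x => E.apply_symm_apply x
  have hsm : ∀ c x, E.symm (i c * x) = c • E.symm x := by
    intro c x
    apply hinj
    rw [hE, hf]
    conv_lhs => rw [← hE x, hf]
    simp only [Prod.smul_fst, Prod.smul_snd, smul_eq_mul, map_mul]
    ring
  refine ⟨(AddMonoidHom.fst F F).comp E.symm.toAddMonoidHom, (AddMonoidHom.snd F F).comp E.symm.toAddMonoidHom,
    fun x => ?_, fun c x => ?_, fun c x => ?_⟩
  · have := hE x
    rw [hf] at this
    exact this.symm
  · change (E.symm (i c * x)).1 = c * (E.symm x).1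
    rw [hsm]; rfl
  · change (E.symm (i c * x)).2 = c * (E.symm x).2
    rw [hsm]; rfl

theorem Base.exists_ne (h : Base i q) : ∃ x : K, x ^ q ≠ x := by
  by_contra hcon
  push Not at hcon
  have hsurj : Function.Surjective i := fun z => h.mem_range (hcon z)
  have := Fintype.card_le_of_surjective _ hsurj
  rw [h.cardK, h.cardF] at this
  have := h.two_le
  nlinarith

/-- A root in `K` of the polynomial `X² - a X + b` attached to an anisotropic form. -/
theorem Base.exists_root (h : Base i q) (a b : F)
    (hab : ∀ z₁ z₂ : F, z₁ ^ 2 + a * z₁ * z₂ + b * z₂ ^ 2 = 0 → z₁ = 0 ∧ z₂ = 0) :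
    ∃ ω : K, ω ^ q ≠ ω ∧ ω + ω ^ q = i a ∧ ω * ω ^ q = i b := by
  classical
  have hnoroot : ∀ x : F, x ^ 2 - a * x + b ≠ 0 := by
    intro x hx
    have := (hab x (-1) (by linear_combination hx)).2
    exact one_ne_zero (neg_eq_zero.1 this)
  let P : Polynomial F := Polynomial.X ^ 2 - Polynomial.C a * Polynomial.X + Polynomial.C b
  have hPdeg : P.natDegree = 2 := by
    have : P = Polynomial.C 1 * Polynomial.X ^ 2 + Polynomial.C (-a) * Polynomial.X + Polynomial.C b := by
      simp only [P, map_one, map_neg]; ring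
    rw [this]
    exact Polynomial.natDegree_quadratic one_ne_zero
  have hPmonic : P.Monic := by
    have : P = Polynomial.X ^ 2 + (- (Polynomial.C a * Polynomial.X) + Polynomial.C b) := by
      simp only [P]; ring
    rw [this]
    apply Polynomial.monic_X_pow_add
    refine lt_of_le_of_lt (Polynomial.degree_add_le _ _) (max_lt ?_ ?_)
    · rw [Polynomial.degree_neg]
      refine lt_of_le_of_lt (Polynomial.degree_C_mul_X_le a) ?_
      norm_num
    · exact lt_of_le_of_lt Polynomial.degree_C_le (by norm_num)
  have hPirr : Irreducible P := by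
    rw [Polynomial.Monic.irreducible_iff_roots_eq_zero_of_degree_le_three hPmonic (by omega) (by omega)]
    rw [Multiset.eq_zero_iff_forall_notMem]
    intro x hx
    rw [Polynomial.mem_roots hPmonic.ne_zero] at hx
    apply hnoroot x
    have : Polynomial.eval x P = 0 := hx
    simpa [P] using this
  haveI : Fact (Irreducible P) := ⟨hPirr⟩
  letI : Algebra F K := i.toAlgebra
  have hL : Module.finrank F (AdjoinRoot P) = 2 := by
    rw [(AdjoinRoot.powerBasis hPmonic.ne_zero).finrank, AdjoinRoot.powerBasis_dim, hPdeg]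
  have hKr : Module.finrank F K = 2 := by
    have := Module.card_eq_pow_finrank (K := F) (V := K)
    rw [h.cardF, h.cardK] at this
    exact (Nat.pow_right_injective h.two_le this).symm
  haveI : FiniteDimensional F (AdjoinRoot P) := Module.finite_of_finrank_pos (by omega)
  haveI : Finite (AdjoinRoot P) := Module.finite_of_finite F
  obtain ⟨g⟩ := FiniteField.nonempty_algHom_of_finrank_dvd (F := F) (K := AdjoinRoot P) (L := K)
    (by rw [hL, hKr])
  obtain ⟨σ, hσ⟩ := exists_powHom h.cardK
  set ω : K := g (AdjoinRoot.root P) with hωdef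
  have hroot : ω ^ 2 - i a * ω + i b = 0 := by
    have h1 : Polynomial.aeval (AdjoinRoot.root P) P = 0 := by
      rw [Polynomial.aeval_def, AdjoinRoot.algebraMap_eq]; exact AdjoinRoot.eval₂_root P
    have h2 := congrArg g h1
    rw [map_zero, ← Polynomial.aeval_algHom_apply] at h2
    have h3 : Polynomial.aeval ω P = ω ^ 2 - i a * ω + i b := by
      simp only [P, map_add, map_sub, map_mul, map_pow, Polynomial.aeval_X, Polynomial.aeval_C]
      rfl
    rw [← h3]; exact h2
  have hne : ω ^ q ≠ ω := by
    intro hω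
    obtain ⟨c, hc⟩ := h.mem_range hω
    apply hnoroot c
    apply i.injective
    rw [map_add, map_sub, map_mul, map_pow, hc, map_zero]
    exact hroot
  have hroot' : (ω ^ q) ^ 2 - i a * ω ^ q + i b = 0 := by
    have := congrArg σ hroot
    rw [map_zero, map_add, map_sub, map_mul, map_pow, hσ ω, hσ (i a), hσ (i b), h.pow_i, h.pow_i] at this
    exact this
  have hsum : ω + ω ^ q = i a := by
    have h4 : (ω - ω ^ q) * (ω + ω ^ q - i a) = 0 := by linear_combination hroot - hroot'
    rcases mul_eq_zero.1 h4 with h5 | h5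
    · exact absurd (sub_eq_zero.1 h5).symm hne
    · exact sub_eq_zero.1 h5
  refine ⟨ω, hne, hsum, ?_⟩
  linear_combination ω * hsum - hroot

end Base

end Cfsg.Agent.H186
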