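import Cfsg.Agent.H186.Emb
import Cfsg.Agent.H186.Unitary

/-!
# The unitary group over the field with `q²` elements inside symplectic and orthogonal groups over `F_q` (helper186)

* `gu_symplectic` (S2639), `gu_plus` (S2640), `gu_minus` (S2641).
-/

set_option autoImplicit false
open Cfsg Matrix

namespace Cfsg.Agent.H186

open Cfsg.Agent.ClassicalGeometry.GUBasic

section Tools

variable {K F : Type*} [Field K] [Fintype K] [Field F] [Fintype F] {q : ℕ} {i : F →+* K}

/-- An injective additive map between coordinate spaces of the same cardinality is an equivalence. -/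
noncomputable def mkEquiv {ι κ : Type*} [Fintype ι] [DecidableEq ι] [Fintype κ] [DecidableEq κ]
    (f : (ι → K) →+ (κ → F)) (hf : ∀ v, f v = 0 → v = 0)
    (hcard : Fintype.card K ^ Fintype.card ι = Fintype.card F ^ Fintype.card κ) : (ι → K) ≃+ (κ → F) :=
  AddEquiv.ofBijective f (by
    rw [Fintype.bijective_iff_injective_and_card]
    refine ⟨(injective_iff_map_eq_zero f).2 hf, ?_⟩
    rw [Fintype.card_fun, Fintype.card_fun, hcard])

theorem mkEquiv_apply {ι κ : Type*} [Fintype ι] [DecidableEq ι] [Fintype κ] [DecidableEq κ]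
    (f : (ι → K) →+ (κ → F)) (hf : ∀ v, f v = 0 → v = 0)
    (hcard : Fintype.card K ^ Fintype.card ι = Fintype.card F ^ Fintype.card κ) (v : ι → K) :
    mkEquiv f hf hcard v = f v := rfl

omit [Fintype K] in
theorem herm_invariant {n : ℕ} (g : GL (Fin n) K) (hg : g ∈ Cfsg.GU n K q) (u v : Fin n → K) :
    hermForm n K q ((g : Matrix (Fin n) (Fin n) K) *ᵥ u) ((g : Matrix (Fin n) (Fin n) K) *ᵥ v) =
      hermForm n K q u v := (mem_GU_iff g).1 hg u v

/-- Elements of prescribed norm. -/
theorem Base.exists_norm_eq (h : Base i q) (c : F) (hc : c ≠ 0) : ∃ x : K, x * x ^ q = i c := by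
  have h1 : IsUnit (Matrix.of (fun _ _ : Unit => i c)) := by
    rw [Matrix.isUnit_iff_isUnit_det]
    simpa using hc
  obtain ⟨d, -, -, hd⟩ := exists_st_mul (ι := Unit) h.cardK (Matrix.of (fun _ _ : Unit => i c)) h1 (by
    ext a b
    simp [st_apply, h.pow_i])
  refine ⟨d () (), ?_⟩
  have := congrFun (congrFun hd ()) ()
  rw [Matrix.mul_apply] at this
  simp only [Finset.univ_unique, PUnit.default_eq_unit, Finset.sum_singleton, st_apply, Matrix.of_apply] at this
  rw [mul_comm, this]

theorem Base.exists_tr_one (h : Base i q) : ∃ x : K, x + x ^ q = 1 := by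
  obtain ⟨ω, hω⟩ := h.exists_ne
  obtain ⟨σ, hσ⟩ := exists_powHom h.cardK
  have h1 : ω ^ q - ω ≠ 0 := sub_ne_zero.2 hω
  refine ⟨ω ^ q / (ω ^ q - ω), ?_⟩
  have h2 : (ω ^ q / (ω ^ q - ω)) ^ q = ω / (ω - ω ^ q) := by
    rw [← hσ, map_div₀, map_sub, hσ, hσ, h.pow_pow]
  rw [h2]
  have h3 : ω - ω ^ q ≠ 0 := by
    intro h4; apply h1; rw [← neg_eq_zero, neg_sub, h4]
  field_simp
  ring

/-- The quadratic form `N(u) + N(w)` on `K²` is the hyperbolic form of rank four. -/
theorem Base.exists_pair (h : Base i q) : ∃ P : Fin 4 → (K × K →+ F),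
    (∀ t (c : F) (z : K × K), P t (i c * z.1, i c * z.2) = c * P t z) ∧
    (∀ u w, u * u ^ q + w * w ^ q = i (P 0 (u, w) * P 2 (u, w) + P 1 (u, w) * P 3 (u, w))) ∧
    (∀ u w, (∀ t, P t (u, w) = 0) → u = 0 ∧ w = 0) := by
  obtain ⟨ω, hω⟩ := h.exists_ne
  obtain ⟨A, B, hAB, hA, hB⟩ := h.exists_coords hω
  obtain ⟨T, hT, hT'⟩ := h.exists_trace
  obtain ⟨σ, hσ⟩ := exists_powHom h.cardK
  obtain ⟨l, hl⟩ := h.exists_norm_eq (-1) (by simp)
  rw [map_neg, map_one] at hl
  obtain ⟨τ, hτ⟩ := h.exists_tr_one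
  have hl0 : l ^ q ≠ 0 := by
    intro h0
    rw [h0, mul_zero] at hl
    exact one_ne_zero (neg_eq_zero.1 hl.symm)
  -- `y = u + l^q w`, `x = u - τ y`
  let Y : K × K →+ K := AddMonoidHom.mk' (fun z => z.1 + l ^ q * z.2) (by
    intro a b; simp only [Prod.fst_add, Prod.snd_add]; ring)
  let X : K × K →+ K := AddMonoidHom.mk' (fun z => z.1 - τ * (z.1 + l ^ q * z.2)) (by
    intro a b; simp only [Prod.fst_add, Prod.snd_add]; ring)
  have hY : ∀ z, Y z = z.1 + l ^ q * z.2 := fun _ => rfl
  have hX : ∀ z, X z = z.1 - τ * (z.1 + l ^ q * z.2) := fun _ => rfl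
  let M : K →+ K := AddMonoidHom.mulLeft (ω ^ q)
  have hM : ∀ z, M z = ω ^ q * z := fun _ => rfl
  refine ⟨![A.comp X, B.comp X, T.comp Y, (T.comp M).comp Y], ?_, ?_, ?_⟩
  · intro t c z
    have hXc : X (i c * z.1, i c * z.2) = i c * X z := by rw [hX, hX]; ring
    have hYc : Y (i c * z.1, i c * z.2) = i c * Y z := by rw [hY, hY]; ring
    fin_cases t
    · change A (X (i c * z.1, i c * z.2)) = c * A (X z)
      rw [hXc, hA]
    · change B (X (i c * z.1, i c * z.2)) = c * B (X z)
      rw [hXc, hB]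
    · change T (Y (i c * z.1, i c * z.2)) = c * T (Y z)
      rw [hYc, hT']
    · change T (M (Y (i c * z.1, i c * z.2))) = c * T (M (Y z))
      rw [hYc, hM, hM, ← hT']
      congr 1; ring
  · intro u w
    change _ = i (A (X (u, w)) * T (Y (u, w)) + B (X (u, w)) * T (M (Y (u, w))))
    set x := X (u, w) with hx
    set y := Y (u, w) with hy
    have hx' : x = i (A x) + i (B x) * ω := hAB x
    have hxq : x ^ q = i (A x) + i (B x) * ω ^ q := by
      conv_lhs => rw [hx', ← hσ]
      rw [map_add, map_mul, hσ, hσ, hσ, h.pow_i, h.pow_i]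
    have hyu : y = u + l ^ q * w := by rw [hy, hY]
    have hxu : x = u - τ * y := by rw [hx, hX, hyu]
    have hyq : y ^ q = u ^ q + l * w ^ q := by
      rw [hyu, ← hσ, map_add, map_mul, hσ, hσ, hσ, h.pow_pow]
    have hxq2 : x ^ q = u ^ q - τ ^ q * y ^ q := by
      rw [hxu, ← hσ, map_sub, map_mul, hσ, hσ, hσ]
    have hMy : (ω ^ q * y) ^ q = ω * y ^ q := by rw [mul_pow, h.pow_pow]
    rw [map_add, map_mul, map_mul, hT, hT, hM, hMy]
    have h1 : i (A x) * (y + y ^ q) + i (B x) * (ω ^ q * y + ω * y ^ q) = x * y ^ q + x ^ q * y := by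
      rw [hxq]
      conv_rhs => rw [hx']
      have h2 : i (A (i (A x) + i (B x) * ω)) = i (A x) := by rw [← hx']
      have h3 : i (B (i (A x) + i (B x) * ω)) = i (B x) := by rw [← hx']
      rw [h2, h3]
      ring
    rw [h1, hxq2, hxu]
    have hττ : τ ^ q = 1 - τ := by linear_combination hτ
    rw [hττ, hyq, hyu]
    linear_combination (w * w ^ q) * hl
  · intro u w hz
    have h0 : A (X (u, w)) = 0 := hz 0
    have h1 : B (X (u, w)) = 0 := hz 1
    have h2 : T (Y (u, w)) = 0 := hz 2
    have h3 : T (M (Y (u, w))) = 0 := hz 3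
    have hx0 : X (u, w) = 0 := by rw [hAB (X (u, w)), h0, h1, map_zero, zero_mul, add_zero]
    have hy0 : Y (u, w) = 0 := by
      have h4 := hT (Y (u, w))
      have h5 := hT (M (Y (u, w)))
      rw [h2, map_zero] at h4
      rw [h3, map_zero, hM, mul_pow, h.pow_pow] at h5
      have h6 : (ω ^ q - ω) * Y (u, w) = 0 := by linear_combination ω * h4 - h5
      exact (mul_eq_zero.1 h6).resolve_left (sub_ne_zero.2 hω)
    have hu : u = 0 := by
      have h6 : X (u, w) = u - τ * Y (u, w) := by rw [hX, hY]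
      rw [hx0, hy0, mul_zero, sub_zero] at h6
      exact h6.symm
    refine ⟨hu, ?_⟩
    rw [hY, hu, zero_add] at hy0
    exact (mul_eq_zero.1 hy0).resolve_left hl0

end Tools

section Main

variable {K F : Type*} [Field K] [Fintype K] [Field F] [Fintype F] {q : ℕ}

/-- Statement S2639. -/
theorem gu_symplectic (hK : Fintype.card K = q ^ 2) (hF : Fintype.card F = q) (m : ℕ) :
    ∃ φ : ↥(Cfsg.GU m K q) →* ↥(Matrix.symplecticGroup (Fin m) F), Function.Injective φ := by
  obtain ⟨i⟩ := exists_ringHom hK hF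
  have h : Base i q := ⟨hK, hF⟩
  obtain ⟨ω, hω⟩ := h.exists_ne
  obtain ⟨A, B, hAB, hA, hB⟩ := h.exists_coords hω
  obtain ⟨σ, hσ⟩ := exists_powHom hK
  have hBz : ∀ z, i (B z) * (ω - ω ^ q) = z - z ^ q := by
    intro z
    have h1 : z ^ q = i (A z) + i (B z) * ω ^ q := by
      conv_lhs => rw [hAB z, ← hσ]
      rw [map_add, map_mul, hσ, hσ, hσ, h.pow_i, h.pow_i]
    rw [h1]
    conv_rhs => rw [hAB z]
    have h2 : i (A (i (A z) + i (B z) * ω)) = i (A z) := by rw [← hAB z]
    have h3 : i (B (i (A z) + i (B z) * ω)) = i (B z) := by rw [← hAB z]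
    rw [h2, h3]
    ring
  have hBuv : ∀ u v : K, B (u * v ^ q) = B u * A v - A u * B v := by
    intro u v
    apply i.injective
    have hne : ω - ω ^ q ≠ 0 := sub_ne_zero.2 (Ne.symm hω)
    apply mul_right_cancel₀ hne
    rw [hBz, mul_pow, h.pow_pow, map_sub, map_mul, map_mul]
    have huq : u ^ q = i (A u) + i (B u) * ω ^ q := by
      have := hBz u
      linear_combination hAB u + this
    have hvq : v ^ q = i (A v) + i (B v) * ω ^ q := by
      have := hBz v
      linear_combination hAB v + this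
    rw [huq, hvq]
    have hu := hAB u
    have hv := hAB v
    generalize i (A u) = au at *
    generalize i (B u) = bu at *
    generalize i (A v) = av at *
    generalize i (B v) = bv at *
    rw [hu, hv]
    ring
  let f : (Fin m → K) →+ (Fin m ⊕ Fin m → F) := AddMonoidHom.mk'
    (fun v => Sum.elim (fun j => A (v j)) (fun j => B (v j))) (by
      intro a b
      funext j
      rcases j with j | j <;> simp)
  have hf : ∀ v, f v = Sum.elim (fun j => A (v j)) (fun j => B (v j)) := fun _ => rfl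
  have hf0 : ∀ v, f v = 0 → v = 0 := by
    intro v hv
    funext j
    have h1 : A (v j) = 0 := congrFun hv (Sum.inl j)
    have h2 : B (v j) = 0 := congrFun hv (Sum.inr j)
    rw [hAB (v j), h1, h2, map_zero, zero_mul, add_zero]
    rfl
  have hcard : Fintype.card K ^ Fintype.card (Fin m) = Fintype.card F ^ Fintype.card (Fin m ⊕ Fin m) := by
    rw [Fintype.card_fin, Fintype.card_sum, Fintype.card_fin, hK, hF, ← pow_mul]
    congr 1
    omega
  refine exists_hom_symplectic i (mkEquiv f hf0 hcard) ?_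
    ((Units.coeHom (Matrix (Fin m) (Fin m) K)).comp (Cfsg.GU m K q).subtype) ?_ ?_
  · intro c v
    rw [mkEquiv_apply, mkEquiv_apply, hf, hf]
    funext j
    rcases j with j | j
    · simp only [Sum.elim_inl, Pi.smul_apply, smul_eq_mul, hA]
    · simp only [Sum.elim_inr, Pi.smul_apply, smul_eq_mul, hB]
  · intro a b hab
    exact Subtype.ext (Units.ext hab)
  · intro g u v
    have key : ∀ u v : Fin m → K, sympForm m F (mkEquiv f hf0 hcard u) (mkEquiv f hf0 hcard v) =
        B (hermForm m K q u v) := by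
      intro u v
      rw [mkEquiv_apply, mkEquiv_apply, Cfsg.Agent.ClassicalGeometry.SympBasic.sympForm_eq_sum, hf, hf,
        hermForm_apply, map_sum]
      refine Finset.sum_congr rfl fun j _ => ?_
      rw [hBuv]
      rfl
    rw [key, key]
    congr 1
    exact herm_invariant (g : GL (Fin m) K) g.2 u v

/-- Statement S2640. -/
theorem gu_plus (hK : Fintype.card K = q ^ 2) (hF : Fintype.card F = q) (m : ℕ) (hm : Even m) :
    ∃ φ : ↥(Cfsg.GU m K q) →* ↥(Cfsg.isometryGroup F (Cfsg.quadFormPlus m F)), Function.Injective φ := by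
  obtain ⟨i⟩ := exists_ringHom hK hF
  have h : Base i q := ⟨hK, hF⟩
  obtain ⟨P, hPs, hPq, hP0⟩ := h.exists_pair
  obtain ⟨k, rfl⟩ := hm
  let ε : Fin k ⊕ Fin k ≃ Fin (k + k) := finSumFinEquiv
  let f : (Fin (k + k) → K) →+ (Fin (k + k) ⊕ Fin (k + k) → F) := AddMonoidHom.mk'
    (fun v => Sum.elim
      (fun t => Sum.elim (fun j => P 0 (v (ε (Sum.inl j)), v (ε (Sum.inr j))))
        (fun j => P 1 (v (ε (Sum.inl j)), v (ε (Sum.inr j)))) (ε.symm t))
      (fun t => Sum.elim (fun j => P 2 (v (ε (Sum.inl j)), v (ε (Sum.inr j))))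
        (fun j => P 3 (v (ε (Sum.inl j)), v (ε (Sum.inr j)))) (ε.symm t))) (by
      intro a b
      funext t
      have hadd : ∀ (s : Fin 4) (x y z w : K), P s (x + y, z + w) = P s (x, z) + P s (y, w) := by
        intro s x y z w
        rw [← map_add]; rfl
      rcases t with t | t
      · simp only [Sum.elim_inl, Pi.add_apply]
        rcases ε.symm t with j | j
        · simp only [Sum.elim_inl, hadd]
        · simp only [Sum.elim_inr, hadd]
      · simp only [Sum.elim_inr, Pi.add_apply]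
        rcases ε.symm t with j | j
        · simp only [Sum.elim_inl, hadd]
        · simp only [Sum.elim_inr, hadd])
  have hf0' : ∀ v j, f v (Sum.inl (ε (Sum.inl j))) = P 0 (v (ε (Sum.inl j)), v (ε (Sum.inr j))) := by
    intro v j
    change Sum.elim _ _ (ε.symm (ε (Sum.inl j))) = _
    rw [Equiv.symm_apply_apply]; rfl
  have hf1 : ∀ v j, f v (Sum.inl (ε (Sum.inr j))) = P 1 (v (ε (Sum.inl j)), v (ε (Sum.inr j))) := by
    intro v j
    change Sum.elim _ _ (ε.symm (ε (Sum.inr j))) = _
    rw [Equiv.symm_apply_apply]; rfl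
  have hf2 : ∀ v j, f v (Sum.inr (ε (Sum.inl j))) = P 2 (v (ε (Sum.inl j)), v (ε (Sum.inr j))) := by
    intro v j
    change Sum.elim _ _ (ε.symm (ε (Sum.inl j))) = _
    rw [Equiv.symm_apply_apply]; rfl
  have hf3 : ∀ v j, f v (Sum.inr (ε (Sum.inr j))) = P 3 (v (ε (Sum.inl j)), v (ε (Sum.inr j))) := by
    intro v j
    change Sum.elim _ _ (ε.symm (ε (Sum.inr j))) = _
    rw [Equiv.symm_apply_apply]; rfl
  have hinj : ∀ v, f v = 0 → v = 0 := by
    intro v hv
    have hz : ∀ j, v (ε (Sum.inl j)) = 0 ∧ v (ε (Sum.inr j)) = 0 := by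
      intro j
      apply hP0
      intro t
      fin_cases t
      · have := congrFun hv (Sum.inl (ε (Sum.inl j))); rwa [hf0'] at this
      · have := congrFun hv (Sum.inl (ε (Sum.inr j))); rwa [hf1] at this
      · have := congrFun hv (Sum.inr (ε (Sum.inl j))); rwa [hf2] at this
      · have := congrFun hv (Sum.inr (ε (Sum.inr j))); rwa [hf3] at this
    funext t
    obtain ⟨s, rfl⟩ := ε.surjective t
    rcases s with j | j
    · exact (hz j).1
    · exact (hz j).2
  have hcard : Fintype.card K ^ Fintype.card (Fin (k + k)) =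
      Fintype.card F ^ Fintype.card (Fin (k + k) ⊕ Fin (k + k)) := by
    rw [Fintype.card_fin, Fintype.card_sum, Fintype.card_fin, hK, hF, ← pow_mul]
    congr 1
    omega
  refine exists_hom_isometry i (mkEquiv f hinj hcard) ?_ _ _ ?_
  · intro c v
    rw [mkEquiv_apply, mkEquiv_apply]
    funext t
    have hsm : ∀ (s : Fin 4) (x y : K), P s (i c * x, i c * y) = c * P s (x, y) := fun s x y => hPs s c (x, y)
    rcases t with t | t
    · obtain ⟨s, rfl⟩ := ε.surjective t
      rcases s with j | j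
      · rw [Pi.smul_apply, smul_eq_mul, hf0', hf0']; exact hsm _ _ _
      · rw [Pi.smul_apply, smul_eq_mul, hf1, hf1]; exact hsm _ _ _
    · obtain ⟨s, rfl⟩ := ε.surjective t
      rcases s with j | j
      · rw [Pi.smul_apply, smul_eq_mul, hf2, hf2]; exact hsm _ _ _
      · rw [Pi.smul_apply, smul_eq_mul, hf3, hf3]; exact hsm _ _ _
  · intro g hg v
    have key : ∀ v : Fin (k + k) → K, i (Cfsg.quadFormPlus (k + k) F (mkEquiv f hinj hcard v)) =
        hermForm (k + k) K q v v := by
      intro v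
      rw [mkEquiv_apply, hermForm_apply, Cfsg.quadFormPlus, ← ε.sum_comp, ← ε.sum_comp, Fintype.sum_sum_type,
        Fintype.sum_sum_type, ← Finset.sum_add_distrib, ← Finset.sum_add_distrib, map_sum]
      refine Finset.sum_congr rfl fun j _ => ?_
      rw [hf0', hf1, hf2, hf3, ← hPq]
    apply i.injective
    rw [key, key]
    exact herm_invariant g hg v v

/-- Statement S2641. -/
theorem gu_minus (hK : Fintype.card K = q ^ 2) (hF : Fintype.card F = q) (m : ℕ) (hm : Odd m) (a b : F)
    (hab : ∀ z₁ z₂ : F, z₁ ^ 2 + a * z₁ * z₂ + b * z₂ ^ 2 = 0 → z₁ = 0 ∧ z₂ = 0) :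
    ∃ φ : ↥(Cfsg.GU m K q) →* ↥(Cfsg.isometryGroup F (Cfsg.quadFormMinus (m - 1) F a b)),
      Function.Injective φ := by
  obtain ⟨i⟩ := exists_ringHom hK hF
  have h : Base i q := ⟨hK, hF⟩
  obtain ⟨P, hPs, hPq, hP0⟩ := h.exists_pair
  obtain ⟨ω, hω, hωs, hωp⟩ := h.exists_root a b hab
  obtain ⟨A, B, hAB, hA, hB⟩ := h.exists_coords hω
  obtain ⟨σ, hσ⟩ := exists_powHom hK
  have hN : ∀ z : K, z * z ^ q = i (A z ^ 2 + a * A z * B z + b * B z ^ 2) := by
    intro z
    have h1 : z ^ q = i (A z) + i (B z) * ω ^ q := by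
      conv_lhs => rw [hAB z, ← hσ]
      rw [map_add, map_mul, hσ, hσ, hσ, h.pow_i, h.pow_i]
    rw [h1]
    have h2 := hAB z
    simp only [map_add, map_mul, map_pow]
    generalize i (A z) = az at *
    generalize i (B z) = bz at *
    rw [h2, ← hωs, ← hωp]
    ring
  obtain ⟨k, rfl⟩ : ∃ k, m = k + k + 1 := by
    obtain ⟨k, hk⟩ := hm
    exact ⟨k, by omega⟩
  have hm1 : k + k + 1 - 1 = k + k := by omega
  rw [hm1]
  let ε : Fin k ⊕ Fin k ≃ Fin (k + k) := finSumFinEquiv
  let f : (Fin (k + k + 1) → K) →+ ((Fin (k + k) ⊕ Fin (k + k)) ⊕ Fin 2 → F) := AddMonoidHom.mk'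
    (fun v => Sum.elim (Sum.elim
      (fun t => Sum.elim (fun j => P 0 (v (ε (Sum.inl j)).castSucc, v (ε (Sum.inr j)).castSucc))
        (fun j => P 1 (v (ε (Sum.inl j)).castSucc, v (ε (Sum.inr j)).castSucc)) (ε.symm t))
      (fun t => Sum.elim (fun j => P 2 (v (ε (Sum.inl j)).castSucc, v (ε (Sum.inr j)).castSucc))
        (fun j => P 3 (v (ε (Sum.inl j)).castSucc, v (ε (Sum.inr j)).castSucc)) (ε.symm t)))
      ![A (v (Fin.last _)), B (v (Fin.last _))]) (by
      intro a b
      funext t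
      have hadd : ∀ (s : Fin 4) (x y z w : K), P s (x + y, z + w) = P s (x, z) + P s (y, w) := by
        intro s x y z w
        rw [← map_add]; rfl
      rcases t with (t | t) | t
      · simp only [Sum.elim_inl, Pi.add_apply]
        rcases ε.symm t with j | j
        · simp only [Sum.elim_inl, hadd]
        · simp only [Sum.elim_inr, hadd]
      · simp only [Sum.elim_inl, Sum.elim_inr, Pi.add_apply]
        rcases ε.symm t with j | j
        · simp only [Sum.elim_inl, hadd]
        · simp only [Sum.elim_inr, hadd]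
      · fin_cases t <;> simp)
  have hf0' : ∀ v j, f v (Sum.inl (Sum.inl (ε (Sum.inl j)))) =
      P 0 (v (ε (Sum.inl j)).castSucc, v (ε (Sum.inr j)).castSucc) := by
    intro v j
    change Sum.elim _ _ (ε.symm (ε (Sum.inl j))) = _
    rw [Equiv.symm_apply_apply]; rfl
  have hf1 : ∀ v j, f v (Sum.inl (Sum.inl (ε (Sum.inr j)))) =
      P 1 (v (ε (Sum.inl j)).castSucc, v (ε (Sum.inr j)).castSucc) := by
    intro v j
    change Sum.elim _ _ (ε.symm (ε (Sum.inr j))) = _
    rw [Equiv.symm_apply_apply]; rfl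
  have hf2 : ∀ v j, f v (Sum.inl (Sum.inr (ε (Sum.inl j)))) =
      P 2 (v (ε (Sum.inl j)).castSucc, v (ε (Sum.inr j)).castSucc) := by
    intro v j
    change Sum.elim _ _ (ε.symm (ε (Sum.inl j))) = _
    rw [Equiv.symm_apply_apply]; rfl
  have hf3 : ∀ v j, f v (Sum.inl (Sum.inr (ε (Sum.inr j)))) =
      P 3 (v (ε (Sum.inl j)).castSucc, v (ε (Sum.inr j)).castSucc) := by
    intro v j
    change Sum.elim _ _ (ε.symm (ε (Sum.inr j))) = _
    rw [Equiv.symm_apply_apply]; rfl
  have hf4 : ∀ v, f v (Sum.inr 0) = A (v (Fin.last _)) := fun v => rfl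
  have hf5 : ∀ v, f v (Sum.inr 1) = B (v (Fin.last _)) := fun v => rfl
  have hinj : ∀ v, f v = 0 → v = 0 := by
    intro v hv
    have hz : ∀ j, v (ε (Sum.inl j)).castSucc = 0 ∧ v (ε (Sum.inr j)).castSucc = 0 := by
      intro j
      apply hP0
      intro t
      fin_cases t
      · have := congrFun hv (Sum.inl (Sum.inl (ε (Sum.inl j)))); rwa [hf0'] at this
      · have := congrFun hv (Sum.inl (Sum.inl (ε (Sum.inr j)))); rwa [hf1] at this
      · have := congrFun hv (Sum.inl (Sum.inr (ε (Sum.inl j)))); rwa [hf2] at this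
      · have := congrFun hv (Sum.inl (Sum.inr (ε (Sum.inr j)))); rwa [hf3] at this
    funext t
    refine Fin.lastCases ?_ (fun t => ?_) t
    · have h1 := congrFun hv (Sum.inr 0)
      have h2 := congrFun hv (Sum.inr 1)
      rw [hf4] at h1
      rw [hf5] at h2
      rw [hAB (v (Fin.last _)), h1, h2]
      simp
    · obtain ⟨s, rfl⟩ := ε.surjective t
      rcases s with j | j
      · exact (hz j).1
      · exact (hz j).2
  have hcard : Fintype.card K ^ Fintype.card (Fin (k + k + 1)) =
      Fintype.card F ^ Fintype.card ((Fin (k + k) ⊕ Fin (k + k)) ⊕ Fin 2) := by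
    simp only [Fintype.card_fin, Fintype.card_sum]
    rw [hK, hF, ← pow_mul]
    congr 1
    omega
  refine exists_hom_isometry i (mkEquiv f hinj hcard) ?_ _ _ ?_
  · intro c v
    rw [mkEquiv_apply, mkEquiv_apply]
    funext t
    have hsm : ∀ (s : Fin 4) (x y : K), P s (i c * x, i c * y) = c * P s (x, y) := fun s x y => hPs s c (x, y)
    rcases t with (t | t) | t
    · obtain ⟨s, rfl⟩ := ε.surjective t
      rcases s with j | j
      · rw [Pi.smul_apply, smul_eq_mul, hf0', hf0']; exact hsm _ _ _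
      · rw [Pi.smul_apply, smul_eq_mul, hf1, hf1]; exact hsm _ _ _
    · obtain ⟨s, rfl⟩ := ε.surjective t
      rcases s with j | j
      · rw [Pi.smul_apply, smul_eq_mul, hf2, hf2]; exact hsm _ _ _
      · rw [Pi.smul_apply, smul_eq_mul, hf3, hf3]; exact hsm _ _ _
    · fin_cases t
      · exact hA c _
      · exact hB c _
  · intro g hg v
    have key : ∀ v : Fin (k + k + 1) → K, i (Cfsg.quadFormMinus (k + k) F a b (mkEquiv f hinj hcard v)) =
        hermForm (k + k + 1) K q v v := by
      intro v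
      rw [mkEquiv_apply, hermForm_apply, Cfsg.quadFormMinus, Fin.sum_univ_castSucc, ← ε.sum_comp, ← ε.sum_comp,
        Fintype.sum_sum_type, Fintype.sum_sum_type, ← Finset.sum_add_distrib, ← Finset.sum_add_distrib, map_add,
        map_sum, hf4, hf5, ← hN]
      congr 1
      refine Finset.sum_congr rfl fun j _ => ?_
      rw [hf0', hf1, hf2, hf3, ← hPq]
    apply i.injective
    rw [key, key]
    exact herm_invariant g hg v v

end Main

end Cfsg.Agent.H186
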