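import Cfsg.Agent.H186.ExcTorus

/-!
# Reduction of integer vectors to the fundamental alcove (helper186)

`Rel D ℓ x y x' y'`: up to a permutation of the roots, the values of the roots at `(x, y)` and `(x', y')` agree modulo `ℓ`.
`reduce`: every pair `(x, y)` is related to a pair with `x'` dominant and `val x' θ ≤ ℓ`, `θ` the highest root.
-/

set_option autoImplicit false

namespace Cfsg.Agent.H186

open Cfsg.Lie Cfsg.Agent.ChevalleyStructure Cfsg.Agent.ChevalleyStructure.Elts
  Cfsg.Agent.ChevalleyStructure.RootCombGood Cfsg.Agent.ChevalleyStructure.RootWord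
  Cfsg.Agent.ChevalleyStructure.RootComb Cfsg.Agent.ChevalleyStructure.NPerm Cfsg.Agent.H190

/-- up to a permutation of the roots, the values at `(x, y)` and `(x', y')` agree modulo `ℓ` -/
def Rel (D : ChevalleyDatum) (ℓ : ℕ) (x y x' y' : ℕ → ℤ) : Prop :=
  ∃ π : Equiv.Perm (Fin D.nroots), ∀ r : Fin D.nroots, ((val D x' r : ℤ) : ZMod ℓ) = (val D x (π r) : ℤ) ∧
    ((val D y' r : ℤ) : ZMod ℓ) = (val D y (π r) : ℤ)

variable {D : ChevalleyDatum} {ℓ : ℕ}

theorem Rel.refl (x y : ℕ → ℤ) : Rel D ℓ x y x y := ⟨1, fun _ => ⟨rfl, rfl⟩⟩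

theorem Rel.trans {x y x' y' x'' y'' : ℕ → ℤ} (h1 : Rel D ℓ x y x' y') (h2 : Rel D ℓ x' y' x'' y'') :
    Rel D ℓ x y x'' y'' := by
  obtain ⟨π, hπ⟩ := h1
  obtain ⟨σ, hσ⟩ := h2
  exact ⟨π * σ, fun r => ⟨(hσ r).1.trans (hπ (σ r)).1, (hσ r).2.trans (hπ (σ r)).2⟩⟩

/-- the simple reflection on vectors -/
def sx (D : ChevalleyDatum) (i : ℕ) (x : ℕ → ℤ) (j : ℕ) : ℤ := x j - D.cartan j (D.simple i) * x i

/-- translation by `- ℓ θ^∨` -/
def tx (D : ChevalleyDatum) (ℓ : ℕ) (x : ℕ → ℤ) (j : ℕ) : ℤ := x j - ℓ * D.cartan j (D.nroots - 1)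

theorem val_simple (G : Good D) (x : ℕ → ℤ) {i : ℕ} (hi : i < D.rank) : val D x (D.simple i) = x i := by
  unfold val
  rw [Finset.sum_eq_single i]
  · rw [G.co_simple hi hi, if_pos rfl, one_mul]
  · intro j hj hji
    rw [G.co_simple hi (Finset.mem_range.1 hj), if_neg (Ne.symm hji), zero_mul]
  · intro h
    exact absurd (Finset.mem_range.2 hi) h

theorem val_neg (G : Good D) (x : ℕ → ℤ) {r : ℕ} (hr : r < D.nroots) : val D x (D.neg r) = - val D x r := by
  unfold val
  rw [← Finset.sum_neg_distrib]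
  refine Finset.sum_congr rfl fun k hk => ?_
  rw [G.co_neg hr (Finset.mem_range.1 hk), neg_mul]

theorem val_reflect (G : Good D) (x : ℕ → ℤ) {i r : ℕ} (hi : i < D.rank) (hr : r < D.nroots) :
    val D x (D.reflectRoot i r) = val D x r - car D r (D.simple i) * x i := by
  unfold val
  have h : ∀ k ∈ Finset.range D.rank, co D (D.reflectRoot i r) k * x k =
      co D r k * x k - (if k = i then car D r (D.simple i) * x i else 0) := by
    intro k hk
    rw [G.co_reflect hi hr (Finset.mem_range.1 hk)]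
    by_cases hki : k = i
    · subst hki
      rw [if_pos rfl, if_pos rfl]
      ring
    · rw [if_neg hki, if_neg hki]
      ring
  rw [Finset.sum_congr rfl h, Finset.sum_sub_distrib, Finset.sum_ite_eq', if_pos (Finset.mem_range.2 hi)]

theorem val_sx (G : Good D) (x : ℕ → ℤ) {i r : ℕ} (hi : i < D.rank) (hr : r < D.nroots) :
    val D (sx D i x) r = val D x (D.reflectRoot i r) := by
  rw [val_reflect G x hi hr]
  unfold val sx car
  rw [Finset.sum_mul, ← Finset.sum_sub_distrib]
  refine Finset.sum_congr rfl fun k _ => ?_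
  ring

theorem val_tx (ℓ : ℕ) (x : ℕ → ℤ) (r : ℕ) :
    val D (tx D ℓ x) r = val D x r - ℓ * car D r (D.nroots - 1) := by
  unfold val tx car
  rw [Finset.mul_sum, ← Finset.sum_sub_distrib]
  refine Finset.sum_congr rfl fun k _ => ?_
  ring

theorem rel_sx (G : Good D) (x y : ℕ → ℤ) {i : ℕ} (hi : i < D.rank) : Rel D ℓ x y (sx D i x) (sx D i y) := by
  refine ⟨reflPerm G i hi, fun r => ?_⟩
  rw [val_sx G x hi r.2, val_sx G y hi r.2]
  exact ⟨rfl, rfl⟩

theorem rel_tx (x y : ℕ → ℤ) : Rel D ℓ x y (tx D ℓ x) y := by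
  refine ⟨1, fun r => ?_⟩
  rw [val_tx]
  refine ⟨?_, rfl⟩
  push_cast
  rw [ZMod.natCast_self, zero_mul, sub_zero]
  rfl

/-- the square length -/
def Qf (D : ChevalleyDatum) (x : ℕ → ℤ) : ℤ := ∑ r : Fin D.nroots, (val D x r) ^ 2

theorem Qf_nonneg (x : ℕ → ℤ) : 0 ≤ Qf D x := Finset.sum_nonneg fun _ _ => sq_nonneg _

theorem Qf_sx (G : Good D) (x : ℕ → ℤ) {i : ℕ} (hi : i < D.rank) : Qf D (sx D i x) = Qf D x := by
  unfold Qf
  rw [← Equiv.sum_comp (reflPerm G i hi)]
  refine Finset.sum_congr rfl fun r _ => ?_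
  rw [val_sx G x hi (reflPerm G i hi r).2, reflPerm_apply, G.reflect_reflect hi r.2]

/-- the data for the translation step -/
structure Alc (D : ChevalleyDatum) (h : ℤ) : Prop where
  pos : 0 < h
  sum_co : ∀ j < D.rank, ∑ r : Fin D.nroots, car D r (D.nroots - 1) * co D r j = 2 * h * co D (D.nroots - 1) j
  sum_sq : ∑ r : Fin D.nroots, (car D r (D.nroots - 1)) ^ 2 = 4 * h

theorem Qf_tx {h : ℤ} (hA : Alc D h) (ℓ : ℕ) (x : ℕ → ℤ) :
    Qf D (tx D ℓ x) = Qf D x - 4 * h * ℓ * (val D x (D.nroots - 1) - ℓ) := by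
  unfold Qf
  have h1 : ∀ r : Fin D.nroots, (val D (tx D ℓ x) r) ^ 2 = (val D x r) ^ 2 -
      2 * ℓ * (car D r (D.nroots - 1) * val D x r) + ℓ ^ 2 * (car D r (D.nroots - 1)) ^ 2 := by
    intro r
    rw [val_tx]
    ring
  simp_rw [h1]
  rw [Finset.sum_add_distrib, Finset.sum_sub_distrib, ← Finset.mul_sum, ← Finset.mul_sum, hA.sum_sq]
  have h2 : ∑ r : Fin D.nroots, car D r (D.nroots - 1) * val D x r = 2 * h * val D x (D.nroots - 1) := by
    unfold val
    simp_rw [Finset.mul_sum]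
    rw [Finset.sum_comm]
    refine Finset.sum_congr rfl fun j hj => ?_
    have := hA.sum_co j (Finset.mem_range.1 hj)
    calc ∑ r : Fin D.nroots, car D r (D.nroots - 1) * (co D r j * x j)
        = (∑ r : Fin D.nroots, car D r (D.nroots - 1) * co D r j) * x j := by
          rw [Finset.sum_mul]
          exact Finset.sum_congr rfl fun r _ => by ring
      _ = _ := by rw [this]; ring
  rw [h2]
  ring

/-- the number of positive roots with negative value -/
def nneg (D : ChevalleyDatum) (x : ℕ → ℤ) : ℕ :=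
  (Finset.univ.filter fun r : Fin D.nroots => D.nroots / 2 ≤ (r : ℕ) ∧ val D x r < 0).card

theorem nneg_sx (G : Good D) (x : ℕ → ℤ) {i : ℕ} (hi : i < D.rank) (hx : x i < 0) :
    nneg D (sx D i x) < nneg D x := by
  classical
  unfold nneg
  set A := Finset.univ.filter fun r : Fin D.nroots => D.nroots / 2 ≤ (r : ℕ) ∧ val D x r < 0 with hA
  set B := Finset.univ.filter fun r : Fin D.nroots => D.nroots / 2 ≤ (r : ℕ) ∧ val D (sx D i x) r < 0 with hB
  let αi : Fin D.nroots := ⟨D.simple i, G.simple_lt hi⟩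
  have hpos : ∀ r : Fin D.nroots, D.nroots / 2 ≤ (r : ℕ) ↔ D.IsPosRoot r := by
    intro r
    rw [G.isPosRoot_iff]
    exact ⟨fun h => ⟨h, r.2⟩, fun h => h.1⟩
  have hαA : αi ∈ A := by
    rw [hA, Finset.mem_filter]
    refine ⟨Finset.mem_univ _, (hpos αi).2 (G.simple_pos hi), ?_⟩
    change val D x (D.simple i) < 0
    rw [val_simple G x hi]
    exact hx
  have hmaps : ∀ r ∈ B, reflPerm G i hi r ∈ A.erase αi := by
    intro r hr
    rw [hB, Finset.mem_filter] at hr
    obtain ⟨-, hr1, hr2⟩ := hr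
    rw [hpos] at hr1
    rw [val_sx G x hi r.2] at hr2
    have hne : (r : ℕ) ≠ D.simple i := by
      intro h
      rw [h, val_reflect G x hi (G.simple_lt hi), car_simple G hi, G.cartan_simple hi, val_simple G x hi] at hr2
      omega
    have hp := G.reflect_pos hi hr1 hne
    rw [Finset.mem_erase, hA, Finset.mem_filter]
    refine ⟨?_, Finset.mem_univ _, ?_, ?_⟩
    · intro h
      have h1 : D.reflectRoot i r = D.simple i := congrArg Fin.val h
      have h2 : (r : ℕ) = D.neg (D.simple i) := by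
        rw [← G.reflect_simple hi, ← h1, G.reflect_reflect hi r.2]
      have h3 := (isPosRoot_neg G (G.simple_lt hi)).1 (h2 ▸ hr1)
      exact not_pos_of_neg G h3 (G.simple_pos hi)
    · rw [hpos]
      exact hp
    · exact hr2
  have hcard : B.card ≤ (A.erase αi).card :=
    Finset.card_le_card_of_injOn _ hmaps (fun a _ b _ h => (reflPerm G i hi).injective h)
  exact lt_of_le_of_lt hcard (Finset.card_erase_lt_of_mem hαA)

/-- **reduction to the fundamental alcove** -/
theorem reduce (G : Good D) {h : ℤ} (hA : Alc D h) (hl : 0 < ℓ) (x y : ℕ → ℤ) :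
    ∃ x' y' : ℕ → ℤ, Rel D ℓ x y x' y' ∧ (∀ i < D.rank, 0 ≤ x' i) ∧ val D x' (D.nroots - 1) ≤ ℓ := by
  -- induction on the pair (Q, nneg)
  have key : ∀ (n : ℕ) (m : ℕ) (x y : ℕ → ℤ), (Qf D x).toNat = n → nneg D x = m →
      ∃ x' y' : ℕ → ℤ, Rel D ℓ x y x' y' ∧ (∀ i < D.rank, 0 ≤ x' i) ∧ val D x' (D.nroots - 1) ≤ ℓ := by
    intro n
    induction n using Nat.strong_induction_on with
    | _ n ih1 =>
      intro m
      induction m using Nat.strong_induction_on with
      | _ m ih2 =>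
        intro x y hn hm
        by_cases hdom : ∀ i < D.rank, 0 ≤ x i
        · by_cases hv : val D x (D.nroots - 1) ≤ ℓ
          · exact ⟨x, y, Rel.refl x y, hdom, hv⟩
          · have h1 := Qf_tx hA ℓ x
            have h2 := Qf_nonneg (D := D) x
            have h3 := Qf_nonneg (D := D) (tx D ℓ x)
            have h4 : 0 < 4 * h * ℓ * (val D x (D.nroots - 1) - ℓ) := by
              have := hA.pos
              have hl' : (0 : ℤ) < ℓ := by exact_mod_cast hl
              have h5 : 0 < val D x (D.nroots - 1) - ℓ := by omega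
              positivity
            obtain ⟨x', y', hr, hd⟩ := ih1 (Qf D (tx D ℓ x)).toNat (by omega) _ (tx D ℓ x) y rfl rfl
            exact ⟨x', y', (rel_tx x y).trans hr, hd⟩
        · push Not at hdom
          obtain ⟨i, hi, hxi⟩ := hdom
          obtain ⟨x', y', hr, hd⟩ := ih2 (nneg D (sx D i x)) (hm ▸ nneg_sx G x hi hxi) (sx D i x) (sx D i y)
            (by rw [Qf_sx G x hi, hn]) rfl
          exact ⟨x', y', (rel_sx G x y hi).trans hr, hd⟩
  exact key _ _ x y rfl rfl

theorem alcE7 : Alc chevE7 18 where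
  pos := by norm_num
  sum_co := by decide +kernel
  sum_sq := by decide +kernel

theorem alcE8 : Alc chevE8 30 where
  pos := by norm_num
  sum_co := by decide +kernel
  sum_sq := by decide +kernel

end Cfsg.Agent.H186
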