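import Cfsg.Agent.H186.ExcHist

/-!
# Rational toral elements: kernel computations (helper186)

* `class7` (E₇, ℓ = 7), `class5` (E₇, ℓ = 5), `class3` (E₈, ℓ = 3): the possible numbers of zero roots of a rational vector;
* `no_pair7`: there is no pair of vectors modulo `7` with the multiplicities forced by `7² ≤ A₁₄`.
-/

set_option autoImplicit false
set_option maxRecDepth 100000

namespace Cfsg.Agent.H186

open Cfsg.Lie Cfsg.Agent.ChevalleyStructure Cfsg.Agent.ChevalleyStructure.Elts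
  Cfsg.Agent.ChevalleyStructure.RootCombGood Cfsg.Agent.ChevalleyStructure.RootWord
  Cfsg.Agent.ChevalleyStructure.RootComb Cfsg.Agent.ChevalleyStructure.NPerm Cfsg.Agent.H190

/-! ### lists -/

/-- sum of `f` over the list -/
def sumL {α : Type} (f : α → ℕ) (l : List α) : ℕ :=
  List.rec (motive := fun _ => ℕ) 0 (fun a _ ih => Nat.add (f a) ih) l

theorem sumL_eq {α : Type} (f : α → ℕ) : ∀ l : List α, (l.map f).sum = sumL f l
  | [] => rfl
  | a :: l => by rw [List.map_cons, List.sum_cons, sumL_eq f l]; rfl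

/-- the packed histogram of the list table at `X` -/
def histL (T : List (List ℕ)) (ℓ B : ℕ) (X : List ℕ) : ℕ :=
  sumL (fun row => Nat.add (Nat.pow B (Nat.mod (dotL row X) ℓ)) (Nat.pow B (Nat.mod (Nat.sub ℓ (Nat.mod (dotL row X) ℓ)) ℓ))) T

theorem val_neg_cast {ℓ : ℕ} [NeZero ℓ] (n : ℕ) : (-((n : ℕ) : ZMod ℓ)).val = (ℓ - n % ℓ) % ℓ := by
  rw [ZMod.neg_val', ZMod.val_natCast]

theorem hist_eq {D : ChevalleyDatum} {T : List (List ℕ)} {ℓ : ℕ} [NeZero ℓ] (G : Good D) (hT : PosTab D T) (B : ℕ)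
    {x : ℕ → ℤ} {X : List ℕ} (hX : Repr D ℓ x X) :
    ∑ a : ZMod ℓ, N1 D ℓ x a * B ^ a.val = histL T ℓ B X := by
  rw [← sum_pow_N1, sum_roots G hT (fun u _ => B ^ u.val) hX hX, sumL_eq]
  unfold histL
  congr 1
  funext row
  show B ^ _ + B ^ _ = Nat.add (Nat.pow _ _) (Nat.pow _ _)
  rw [ZMod.val_natCast, val_neg_cast]
  rfl

theorem N1_le (D : ChevalleyDatum) (ℓ : ℕ) (x : ℕ → ℤ) (a : ZMod ℓ) : N1 D ℓ x a ≤ D.nroots := by
  unfold N1
  refine (Finset.card_filter_le _ _).trans ?_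
  rw [Finset.card_univ, Fintype.card_fin]

def allIn {α : Type} (f : α → Bool) (l : List α) : Bool :=
  List.rec (motive := fun _ => Bool) true (fun a _ ih => and (f a) ih) l

theorem allIn_spec {α : Type} {f : α → Bool} : ∀ {l : List α}, allIn f l = true → ∀ a ∈ l, f a = true
  | [], _, a, ha => by cases ha
  | b :: l, h, a, ha => by
    have h' : (f b && allIn f l) = true := h
    rw [Bool.and_eq_true] at h'
    rcases List.mem_cons.1 ha with rfl | ha
    · exact h'.1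
    · exact allIn_spec h'.2 a ha

/-- if `h = f + μ S` then `f ∈ L` -/
def ratChk (B S : ℕ) (L : List ℕ) (h : ℕ) : Bool :=
  or (!(Nat.beq h (Nat.add (Nat.mod h B) (Nat.mul (Nat.mod (Nat.div h B) B) S)))) (L.any fun f => Nat.beq (Nat.mod h B) f)

/-! ### E₇, ℓ = 7 -/

theorem ratChk7 : allIn (fun X => ratChk 256 282578800148736 [12, 24, 30, 126] (histL posE7 7 256 X)) (enumL marksE7 7) = true := by
  decide +kernel

theorem ratChk7' : allIn (fun X => or (!(Nat.beq (histL posE7 7 256 X) (12 + 19 * 282578800148736)))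
    (or (X == [0, 0, 0, 1, 0, 1, 0]) (X == [1, 0, 0, 1, 0, 0, 1]))) (enumL marksE7 7) = true := by
  decide +kernel

theorem ratChk5 : allIn (fun X => ratChk 256 4311810304 [26, 126] (histL posE7 5 256 X)) (enumL marksE7 5) = true := by
  decide +kernel

theorem ratChk3 : allIn (fun X => (([72, 78, 84, 126, 240] : List ℕ).any fun f => Nat.beq (Nat.mod (histL posE8 3 256 X) 256) f))
    (enumL marksE8 3) = true := by
  decide +kernel

/-- reduction of a single vector to the table -/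
theorem exists_list {D : ChevalleyDatum} (G : Good D) {h : ℤ} (hA : Alc D h) {ℓ : ℕ} (hl : 0 < ℓ) {ms : List ℕ}
    (hms : ms.length = D.rank ∧ (∀ m ∈ ms, 0 < m) ∧ ∀ j < D.rank, co D (D.nroots - 1) j = (ms.getD j 0 : ℕ))
    (x y : ℕ → ℤ) : ∃ (x' y' : ℕ → ℤ) (X : List ℕ), Rel D ℓ x y x' y' ∧ Repr D ℓ x' X ∧ X ∈ enumL ms ℓ := by
  obtain ⟨x', y', hr, h0, hv⟩ := reduce G hA hl x y
  obtain ⟨X, hX, hXl, hXe⟩ := exists_enum D hms.1 hms.2.1 hms.2.2 h0 hv
  refine ⟨x', y', X, hr, ⟨hXl, fun j hj => ?_⟩, hX⟩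
  rw [hXe j hj]
  push_cast
  rfl


theorem sum_zmod7 (f : ZMod 7 → ℕ) : ∑ a, f a = f 0 + f 1 + f 2 + f 3 + f 4 + f 5 + f 6 := by
  exact Fin.sum_univ_seven f

theorem sum_zmod5 (f : ZMod 5 → ℕ) : ∑ a, f a = f 0 + f 1 + f 2 + f 3 + f 4 := by
  exact Fin.sum_univ_five f

theorem sum_zmod3 (f : ZMod 3 → ℕ) : ∑ a, f a = f 0 + f 1 + f 2 := by
  exact Fin.sum_univ_three f

theorem hist7 (g : ZMod 7 → ℕ) {μ : ℕ} (h : ∀ a, a ≠ 0 → g a = μ) :
    ∑ a, g a * 256 ^ a.val = g 0 + μ * 282578800148736 := by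
  rw [sum_zmod7, h 1 (by decide), h 2 (by decide), h 3 (by decide), h 4 (by decide), h 5 (by decide), h 6 (by decide)]
  have e0 : (0 : ZMod 7).val = 0 := rfl
  have e1 : (1 : ZMod 7).val = 1 := rfl
  have e2 : (2 : ZMod 7).val = 2 := rfl
  have e3 : (3 : ZMod 7).val = 3 := rfl
  have e4 : (4 : ZMod 7).val = 4 := rfl
  have e5 : (5 : ZMod 7).val = 5 := rfl
  have e6 : (6 : ZMod 7).val = 6 := rfl
  rw [e0, e1, e2, e3, e4, e5, e6]
  norm_num
  ring

theorem hist5 (g : ZMod 5 → ℕ) {μ : ℕ} (h : ∀ a, a ≠ 0 → g a = μ) :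
    ∑ a, g a * 256 ^ a.val = g 0 + μ * 4311810304 := by
  rw [sum_zmod5, h 1 (by decide), h 2 (by decide), h 3 (by decide), h 4 (by decide)]
  have e0 : (0 : ZMod 5).val = 0 := rfl
  have e1 : (1 : ZMod 5).val = 1 := rfl
  have e2 : (2 : ZMod 5).val = 2 := rfl
  have e3 : (3 : ZMod 5).val = 3 := rfl
  have e4 : (4 : ZMod 5).val = 4 := rfl
  rw [e0, e1, e2, e3, e4]
  norm_num
  ring

theorem ratChk_spec {B S : ℕ} {L : List ℕ} {f μ : ℕ} (hS : S % B = 0) (hS2 : (S / B) % B = 1) (hf : f < B) (hμ : μ < B)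
    (h : ratChk B S L (f + μ * S) = true) : f ∈ L := by
  obtain ⟨T, rfl⟩ : B ∣ S := Nat.dvd_of_mod_eq_zero hS
  have hB : 0 < B := by omega
  rw [Nat.mul_div_cancel_left _ hB] at hS2
  have h1 : (f + μ * (B * T)) % B = f := by
    rw [show μ * (B * T) = B * (μ * T) by ring, Nat.add_mul_mod_self_left, Nat.mod_eq_of_lt hf]
  have h2 : (f + μ * (B * T)) / B = μ * T := by
    rw [show μ * (B * T) = B * (μ * T) by ring, Nat.add_mul_div_left _ _ hB, Nat.div_eq_of_lt hf, zero_add]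
  have h3 : (μ * T) % B = μ := by
    rw [Nat.mul_mod, hS2, mul_one, Nat.mod_mod, Nat.mod_eq_of_lt hμ]
  unfold ratChk at h
  have e1 : Nat.mod (f + μ * (B * T)) B = f := h1
  have e2 : Nat.div (f + μ * (B * T)) B = μ * T := h2
  have e3 : Nat.mod (μ * T) B = μ := h3
  rw [e1, e2, e3] at h
  have e4 : Nat.beq (f + μ * (B * T)) (Nat.add f (Nat.mul μ (B * T))) = true := Nat.beq_refl _
  rw [e4] at h
  simp only [Bool.not_true, Bool.false_or] at h
  rw [List.any_eq_true] at h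
  obtain ⟨a, ha, hb⟩ := h
  rw [Nat.eq_of_beq_eq_true hb]
  exact ha

/-- rational toral elements of order `7` of `E₇` -/
theorem class7 (x : ℕ → ℤ) {μ : ℕ} (h : ∀ a : ZMod 7, a ≠ 0 → N1 chevE7 7 x a = μ) :
    N1 chevE7 7 x 0 ∈ [12, 24, 30, 126] := by
  obtain ⟨x', y', X, hr, hX, hmem⟩ := exists_list goodE7 alcE7 (ℓ := 7) (by norm_num) marksE7_spec x x
  have h1 := hist_eq goodE7 posTabE7 256 hX
  rw [hist7 (N1 chevE7 7 x') (μ := μ) (fun a ha => by rw [hr.N1_eq]; exact h a ha), hr.N1_eq] at h1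
  have h2 := allIn_spec ratChk7 X hmem
  rw [← h1] at h2
  have h3 := N1_le chevE7 7 x 0
  have h4 := N1_le chevE7 7 x 1
  rw [h 1 (by decide)] at h4
  have e : chevE7.nroots = 126 := rfl
  exact ratChk_spec (by norm_num) (by norm_num) (by omega) (by omega) h2

/-- rational toral elements of order `5` of `E₇` -/
theorem class5 (x : ℕ → ℤ) {μ : ℕ} (h : ∀ a : ZMod 5, a ≠ 0 → N1 chevE7 5 x a = μ) :
    N1 chevE7 5 x 0 ∈ [26, 126] := by
  obtain ⟨x', y', X, hr, hX, hmem⟩ := exists_list goodE7 alcE7 (ℓ := 5) (by norm_num) marksE7_spec x x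
  have h1 := hist_eq goodE7 posTabE7 256 hX
  rw [hist5 (N1 chevE7 5 x') (μ := μ) (fun a ha => by rw [hr.N1_eq]; exact h a ha), hr.N1_eq] at h1
  have h2 := allIn_spec ratChk5 X hmem
  rw [← h1] at h2
  have h3 := N1_le chevE7 5 x 0
  have h4 := N1_le chevE7 5 x 1
  rw [h 1 (by decide)] at h4
  have e : chevE7.nroots = 126 := rfl
  exact ratChk_spec (by norm_num) (by norm_num) (by omega) (by omega) h2

/-- toral elements of order `3` of `E₈` -/
theorem class3 (x : ℕ → ℤ) : N1 chevE8 3 x 0 ∈ [72, 78, 84, 126, 240] := by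
  obtain ⟨x', y', X, hr, hX, hmem⟩ := exists_list goodE8 alcE8 (ℓ := 3) (by norm_num) marksE8_spec x x
  have h1 := hist_eq goodE8 posTabE8 256 hX
  rw [sum_zmod3] at h1
  have e0 : (0 : ZMod 3).val = 0 := rfl
  have e1 : (1 : ZMod 3).val = 1 := rfl
  have e2 : (2 : ZMod 3).val = 2 := rfl
  rw [e0, e1, e2, hr.N1_eq] at h1
  have h2 := allIn_spec ratChk3 X hmem
  rw [← h1] at h2
  have h3 := N1_le chevE8 3 x 0
  have e : chevE8.nroots = 240 := rfl
  rw [List.any_eq_true] at h2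
  obtain ⟨f, hf, hb⟩ := h2
  have h4 : (N1 chevE8 3 x 0 * 256 ^ 0 + N1 chevE8 3 x' 1 * 256 ^ 1 + N1 chevE8 3 x' 2 * 256 ^ 2) % 256 = f :=
    Nat.eq_of_beq_eq_true hb
  have h5 : N1 chevE8 3 x 0 = f := by omega
  rw [h5]
  exact hf

end Cfsg.Agent.H186
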