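import Cfsg.Agent.H186.ExcAlcove

/-!
# Histograms of root values (helper186)

Tables of the positive roots of `E₇`, `E₈`, sums over the roots as sums over the table, counts `N1`, `N2` of roots with given
values modulo `ℓ`, and the enumeration of the dominant vectors in the fundamental alcove.
-/

set_option autoImplicit false

namespace Cfsg.Agent.H186

open Cfsg.Lie Cfsg.Agent.ChevalleyStructure Cfsg.Agent.ChevalleyStructure.Elts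
  Cfsg.Agent.ChevalleyStructure.RootCombGood Cfsg.Agent.ChevalleyStructure.RootWord
  Cfsg.Agent.ChevalleyStructure.RootComb Cfsg.Agent.ChevalleyStructure.NPerm Cfsg.Agent.H190

/-- dot product of lists -/
def dotL (l : List ℕ) : List ℕ → ℕ :=
  List.rec (motive := fun _ => List ℕ → ℕ) (fun _ => 0)
    (fun a _ ih m => List.rec (motive := fun _ => ℕ) 0 (fun b t _ => Nat.add (Nat.mul a b) (ih t)) m) l

theorem dotL_nil (m : List ℕ) : dotL [] m = 0 := rfl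

theorem dotL_cons (a b : ℕ) (l m : List ℕ) : dotL (a :: l) (b :: m) = a * b + dotL l m := rfl

theorem dotL_eq : ∀ (l m : List ℕ), l.length = m.length →
    dotL l m = ∑ j ∈ Finset.range l.length, l.getD j 0 * m.getD j 0
  | [], m, _ => by simp [dotL_nil]
  | a :: l, [], h => by simp at h
  | a :: l, b :: m, h => by
    rw [dotL_cons, dotL_eq l m (by simpa using h), List.length_cons, Finset.sum_range_succ']
    simp only [List.getD_cons_succ, List.getD_cons_zero]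
    rw [add_comm]

/-- `T` is the table of the coefficients of the positive roots of `D` -/
structure PosTab (D : ChevalleyDatum) (T : List (List ℕ)) : Prop where
  len : D.nroots = 2 * T.length
  rowlen : ∀ row ∈ T, row.length = D.rank
  row : ∀ k < T.length, ∀ j < D.rank, co D (T.length + k) j = ((T.getD k []).getD j 0 : ℕ)

variable {D : ChevalleyDatum} {T : List (List ℕ)} {ℓ : ℕ}

theorem PosTab.getD_len (hT : PosTab D T) {k : ℕ} (hk : k < T.length) : (T.getD k []).length = D.rank := by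
  apply hT.rowlen
  rw [List.getD_eq_getElem _ _ hk]
  exact List.getElem_mem hk

/-- the list `X` of naturals represents the vector `x` modulo `ℓ` -/
structure Repr (D : ChevalleyDatum) (ℓ : ℕ) (x : ℕ → ℤ) (X : List ℕ) : Prop where
  len : X.length = D.rank
  eq : ∀ j < D.rank, ((x j : ℤ) : ZMod ℓ) = ((X.getD j 0 : ℕ) : ZMod ℓ)

theorem val_row (hT : PosTab D T) {x : ℕ → ℤ} {X : List ℕ} (hX : Repr D ℓ x X) {k : ℕ} (hk : k < T.length) :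
    ((val D x (T.length + k) : ℤ) : ZMod ℓ) = ((dotL (T.getD k []) X : ℕ) : ZMod ℓ) := by
  have hl := hT.getD_len hk
  rw [dotL_eq _ _ (hl.trans hX.len.symm), hl]
  unfold val
  push_cast
  refine Finset.sum_congr rfl fun j hj => ?_
  have hj' := Finset.mem_range.1 hj
  rw [hT.row k hk j hj', hX.eq j hj']
  push_cast
  rfl

theorem sum_getD {M : Type*} [AddCommMonoid M] {α : Type*} (d : α) (f : α → M) : ∀ T : List α,
    (T.map f).sum = ∑ k ∈ Finset.range T.length, f (T.getD k d)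
  | [] => by simp
  | a :: T => by
    rw [List.map_cons, List.sum_cons, sum_getD d f T, List.length_cons, Finset.sum_range_succ']
    simp only [List.getD_cons_succ, List.getD_cons_zero]
    rw [add_comm]

/-- sums over the roots as sums over the table -/
theorem sum_roots (G : Good D) (hT : PosTab D T) {M : Type*} [AddCommMonoid M] (Φ : ZMod ℓ → ZMod ℓ → M)
    {x y : ℕ → ℤ} {X Y : List ℕ} (hX : Repr D ℓ x X) (hY : Repr D ℓ y Y) :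
    ∑ r : Fin D.nroots, Φ ((val D x r : ℤ) : ZMod ℓ) ((val D y r : ℤ) : ZMod ℓ) =
      (T.map fun row => Φ ((dotL row X : ℕ) : ZMod ℓ) ((dotL row Y : ℕ) : ZMod ℓ) +
        Φ (-((dotL row X : ℕ) : ZMod ℓ)) (-((dotL row Y : ℕ) : ZMod ℓ))).sum := by
  rw [sum_getD ([] : List ℕ), Fin.sum_univ_eq_sum_range
    (fun r => Φ ((val D x r : ℤ) : ZMod ℓ) ((val D y r : ℤ) : ZMod ℓ)), hT.len, two_mul, Finset.sum_range_add,
    Finset.sum_add_distrib, add_comm]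
  congr 1
  · refine Finset.sum_congr rfl fun k hk => ?_
    rw [val_row hT hX (Finset.mem_range.1 hk), val_row hT hY (Finset.mem_range.1 hk)]
  · rw [← Finset.sum_range_reflect]
    refine Finset.sum_congr rfl fun k hk => ?_
    have hk' := Finset.mem_range.1 hk
    have hlt : T.length + k < D.nroots := by rw [hT.len]; omega
    have hneg : D.neg (T.length + k) = T.length - 1 - k := by
      rw [G.neg_eq hlt, hT.len]; omega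
    rw [← hneg, val_neg G x hlt, val_neg G y hlt]
    push_cast
    rw [val_row hT hX hk', val_row hT hY hk']

/-! ### counts -/

/-- number of roots with value `a` modulo `ℓ` -/
def N1 (D : ChevalleyDatum) (ℓ : ℕ) (x : ℕ → ℤ) (a : ZMod ℓ) : ℕ :=
  (Finset.univ.filter fun r : Fin D.nroots => ((val D x r : ℤ) : ZMod ℓ) = a).card

/-- number of roots with values `a`, `b` modulo `ℓ` -/
def N2 (D : ChevalleyDatum) (ℓ : ℕ) (x y : ℕ → ℤ) (a b : ZMod ℓ) : ℕ :=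
  (Finset.univ.filter fun r : Fin D.nroots => ((val D x r : ℤ) : ZMod ℓ) = a ∧ ((val D y r : ℤ) : ZMod ℓ) = b).card

theorem Rel.N1_eq {x y x' y' : ℕ → ℤ} (h : Rel D ℓ x y x' y') (a : ZMod ℓ) : N1 D ℓ x' a = N1 D ℓ x a := by
  obtain ⟨π, hπ⟩ := h
  unfold N1
  refine Finset.card_bij (fun r _ => π r) ?_ (fun a _ b _ h => π.injective h) ?_
  · intro r hr
    rw [Finset.mem_filter] at hr ⊢
    exact ⟨Finset.mem_univ _, (hπ r).1 ▸ hr.2⟩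
  · intro r hr
    rw [Finset.mem_filter] at hr
    refine ⟨π.symm r, ?_, π.apply_symm_apply r⟩
    rw [Finset.mem_filter]
    refine ⟨Finset.mem_univ _, ?_⟩
    rw [(hπ _).1, π.apply_symm_apply]
    exact hr.2

theorem Rel.N2_eq {x y x' y' : ℕ → ℤ} (h : Rel D ℓ x y x' y') (a b : ZMod ℓ) : N2 D ℓ x' y' a b = N2 D ℓ x y a b := by
  obtain ⟨π, hπ⟩ := h
  unfold N2
  refine Finset.card_bij (fun r _ => π r) ?_ (fun a _ b _ h => π.injective h) ?_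
  · intro r hr
    rw [Finset.mem_filter] at hr ⊢
    exact ⟨Finset.mem_univ _, (hπ r).1 ▸ hr.2.1, (hπ r).2 ▸ hr.2.2⟩
  · intro r hr
    rw [Finset.mem_filter] at hr
    refine ⟨π.symm r, ?_, π.apply_symm_apply r⟩
    rw [Finset.mem_filter]
    refine ⟨Finset.mem_univ _, ?_, ?_⟩
    · rw [(hπ _).1, π.apply_symm_apply]
      exact hr.2.1
    · rw [(hπ _).2, π.apply_symm_apply]
      exact hr.2.2

/-- packed histogram of the values at `x` -/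
theorem sum_pow_N1 [NeZero ℓ] (B : ℕ) (x : ℕ → ℤ) :
    ∑ r : Fin D.nroots, B ^ (((val D x r : ℤ) : ZMod ℓ)).val = ∑ a : ZMod ℓ, N1 D ℓ x a * B ^ a.val := by
  unfold N1
  simp_rw [Finset.card_filter, Finset.sum_mul]
  rw [Finset.sum_comm]
  refine Finset.sum_congr rfl fun r _ => ?_
  simp_rw [ite_mul, one_mul, zero_mul]
  rw [Finset.sum_ite_eq]
  simp

/-- packed histogram of the values at `y` of the roots with value `a` at `x` -/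
theorem sum_pow_N2 [NeZero ℓ] (B : ℕ) (x y : ℕ → ℤ) (a : ZMod ℓ) :
    ∑ r : Fin D.nroots, (if ((val D x r : ℤ) : ZMod ℓ) = a then B ^ (((val D y r : ℤ) : ZMod ℓ)).val else 0) =
      ∑ b : ZMod ℓ, N2 D ℓ x y a b * B ^ b.val := by
  unfold N2
  simp_rw [Finset.card_filter, Finset.sum_mul]
  rw [Finset.sum_comm]
  refine Finset.sum_congr rfl fun r _ => ?_
  simp_rw [ite_mul, one_mul, zero_mul]
  by_cases h : ((val D x r : ℤ) : ZMod ℓ) = a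
  · simp only [h, true_and, if_true]
    rw [Finset.sum_ite_eq]
    simp
  · simp only [h, false_and, if_false, Finset.sum_const_zero]

/-- every vector is represented by a list of naturals `< ℓ` -/
theorem exists_repr [NeZero ℓ] (D : ChevalleyDatum) (y : ℕ → ℤ) :
    ∃ Y : List ℕ, Repr D ℓ y Y ∧ ∀ v ∈ Y, v < ℓ := by
  refine ⟨(List.range D.rank).map fun j => (((y j : ℤ) : ZMod ℓ)).val, ⟨by simp, fun j hj => ?_⟩, ?_⟩
  · rw [List.getD_eq_getElem _ _ (by simpa using hj)]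
    simp
  · intro v hv
    rw [List.mem_map] at hv
    obtain ⟨j, -, rfl⟩ := hv
    exact ZMod.val_lt _

/-! ### enumeration of the alcove -/

/-- the lists `X` of naturals with `∑ m_j X_j ≤ b` -/
def enumL : List ℕ → ℕ → List (List ℕ)
  | [], _ => [[]]
  | m :: ms, b => (List.range (b + 1)).flatMap fun v => if m * v ≤ b then (enumL ms (b - m * v)).map (v :: ·) else []

theorem mem_enumL : ∀ (ms : List ℕ) (b : ℕ) (X : List ℕ), (∀ m ∈ ms, 0 < m) → X.length = ms.length →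
    dotL ms X ≤ b → X ∈ enumL ms b
  | [], b, X, _, hl, _ => by
    have : X = [] := List.eq_nil_of_length_eq_zero (by simpa using hl)
    simp [enumL, this]
  | m :: ms, b, [], _, hl, _ => by simp at hl
  | m :: ms, b, v :: X, hpos, hl, hd => by
    rw [dotL_cons] at hd
    unfold enumL
    rw [List.mem_flatMap]
    have hm : 0 < m := hpos m (by simp)
    have hv : m * v ≤ b := by omega
    have hvb : v ≤ b := le_trans (Nat.le_mul_of_pos_left v hm) hv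
    refine ⟨v, by rw [List.mem_range]; omega, ?_⟩
    rw [if_pos hv, List.mem_map]
    exact ⟨X, mem_enumL ms (b - m * v) X (fun a ha => hpos a (by simp [ha])) (by simpa using hl) (by omega), rfl⟩

/-- the reduced vectors are in the enumeration -/
theorem exists_enum (D : ChevalleyDatum) {ms : List ℕ} (hlen : ms.length = D.rank) (hpos : ∀ m ∈ ms, 0 < m)
    (hms : ∀ j < D.rank, co D (D.nroots - 1) j = (ms.getD j 0 : ℕ)) {x : ℕ → ℤ} (h0 : ∀ i < D.rank, 0 ≤ x i)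
    (hv : val D x (D.nroots - 1) ≤ ℓ) : ∃ X ∈ enumL ms ℓ, X.length = D.rank ∧ ∀ j < D.rank, x j = (X.getD j 0 : ℕ) := by
  have hX : ∀ j < D.rank, x j = ((((List.range D.rank).map fun j => (x j).toNat).getD j 0 : ℕ) : ℤ) := by
    intro j hj
    rw [List.getD_eq_getElem _ _ (by simpa using hj)]
    simp only [List.getElem_map, List.getElem_range]
    exact (Int.toNat_of_nonneg (h0 j hj)).symm
  refine ⟨(List.range D.rank).map fun j => (x j).toNat, ?_, by simp, hX⟩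
  apply mem_enumL _ _ _ hpos (by simp [hlen])
  rw [dotL_eq _ _ (by simp [hlen]), hlen]
  have h1 : val D x (D.nroots - 1) = ((∑ j ∈ Finset.range D.rank, ms.getD j 0 *
      ((List.range D.rank).map fun j => (x j).toNat).getD j 0 : ℕ) : ℤ) := by
    unfold val
    push_cast
    refine Finset.sum_congr rfl fun j hj => ?_
    have hj' := Finset.mem_range.1 hj
    rw [hms j hj', hX j hj']
  rw [h1] at hv
  exact_mod_cast hv

/-! ### the tables -/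

def posE7 : List (List ℕ) :=
  [[0, 0, 0, 0, 0, 0, 1], [0, 0, 0, 0, 0, 1, 0], [0, 0, 0, 0, 0, 1, 1], [0, 0, 0, 0, 1, 0, 0],
   [0, 0, 0, 0, 1, 1, 0], [0, 0, 0, 0, 1, 1, 1], [0, 0, 0, 1, 0, 0, 0], [0, 0, 0, 1, 1, 0, 0],
   [0, 0, 0, 1, 1, 1, 0], [0, 0, 0, 1, 1, 1, 1], [0, 0, 1, 0, 0, 0, 0], [0, 0, 1, 1, 0, 0, 0],
   [0, 0, 1, 1, 1, 0, 0], [0, 0, 1, 1, 1, 1, 0], [0, 0, 1, 1, 1, 1, 1], [0, 1, 0, 0, 0, 0, 0],
   [0, 1, 0, 1, 0, 0, 0], [0, 1, 0, 1, 1, 0, 0], [0, 1, 0, 1, 1, 1, 0], [0, 1, 0, 1, 1, 1, 1],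
   [0, 1, 1, 1, 0, 0, 0], [0, 1, 1, 1, 1, 0, 0], [0, 1, 1, 1, 1, 1, 0], [0, 1, 1, 1, 1, 1, 1],
   [0, 1, 1, 2, 1, 0, 0], [0, 1, 1, 2, 1, 1, 0], [0, 1, 1, 2, 1, 1, 1], [0, 1, 1, 2, 2, 1, 0],
   [0, 1, 1, 2, 2, 1, 1], [0, 1, 1, 2, 2, 2, 1], [1, 0, 0, 0, 0, 0, 0], [1, 0, 1, 0, 0, 0, 0],
   [1, 0, 1, 1, 0, 0, 0], [1, 0, 1, 1, 1, 0, 0], [1, 0, 1, 1, 1, 1, 0], [1, 0, 1, 1, 1, 1, 1],
   [1, 1, 1, 1, 0, 0, 0], [1, 1, 1, 1, 1, 0, 0], [1, 1, 1, 1, 1, 1, 0], [1, 1, 1, 1, 1, 1, 1],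
   [1, 1, 1, 2, 1, 0, 0], [1, 1, 1, 2, 1, 1, 0], [1, 1, 1, 2, 1, 1, 1], [1, 1, 1, 2, 2, 1, 0],
   [1, 1, 1, 2, 2, 1, 1], [1, 1, 1, 2, 2, 2, 1], [1, 1, 2, 2, 1, 0, 0], [1, 1, 2, 2, 1, 1, 0],
   [1, 1, 2, 2, 1, 1, 1], [1, 1, 2, 2, 2, 1, 0], [1, 1, 2, 2, 2, 1, 1], [1, 1, 2, 2, 2, 2, 1],
   [1, 1, 2, 3, 2, 1, 0], [1, 1, 2, 3, 2, 1, 1], [1, 1, 2, 3, 2, 2, 1], [1, 1, 2, 3, 3, 2, 1],
   [1, 2, 2, 3, 2, 1, 0], [1, 2, 2, 3, 2, 1, 1], [1, 2, 2, 3, 2, 2, 1], [1, 2, 2, 3, 3, 2, 1],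
   [1, 2, 2, 4, 3, 2, 1], [1, 2, 3, 4, 3, 2, 1], [2, 2, 3, 4, 3, 2, 1]]

def posE8 : List (List ℕ) :=
  [[0, 0, 0, 0, 0, 0, 0, 1], [0, 0, 0, 0, 0, 0, 1, 0], [0, 0, 0, 0, 0, 0, 1, 1], [0, 0, 0, 0, 0, 1, 0, 0],
   [0, 0, 0, 0, 0, 1, 1, 0], [0, 0, 0, 0, 0, 1, 1, 1], [0, 0, 0, 0, 1, 0, 0, 0], [0, 0, 0, 0, 1, 1, 0, 0],
   [0, 0, 0, 0, 1, 1, 1, 0], [0, 0, 0, 0, 1, 1, 1, 1], [0, 0, 0, 1, 0, 0, 0, 0], [0, 0, 0, 1, 1, 0, 0, 0],
   [0, 0, 0, 1, 1, 1, 0, 0], [0, 0, 0, 1, 1, 1, 1, 0], [0, 0, 0, 1, 1, 1, 1, 1], [0, 0, 1, 0, 0, 0, 0, 0],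
   [0, 0, 1, 1, 0, 0, 0, 0], [0, 0, 1, 1, 1, 0, 0, 0], [0, 0, 1, 1, 1, 1, 0, 0], [0, 0, 1, 1, 1, 1, 1, 0],
   [0, 0, 1, 1, 1, 1, 1, 1], [0, 1, 0, 0, 0, 0, 0, 0], [0, 1, 0, 1, 0, 0, 0, 0], [0, 1, 0, 1, 1, 0, 0, 0],
   [0, 1, 0, 1, 1, 1, 0, 0], [0, 1, 0, 1, 1, 1, 1, 0], [0, 1, 0, 1, 1, 1, 1, 1], [0, 1, 1, 1, 0, 0, 0, 0],
   [0, 1, 1, 1, 1, 0, 0, 0], [0, 1, 1, 1, 1, 1, 0, 0], [0, 1, 1, 1, 1, 1, 1, 0], [0, 1, 1, 1, 1, 1, 1, 1],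
   [0, 1, 1, 2, 1, 0, 0, 0], [0, 1, 1, 2, 1, 1, 0, 0], [0, 1, 1, 2, 1, 1, 1, 0], [0, 1, 1, 2, 1, 1, 1, 1],
   [0, 1, 1, 2, 2, 1, 0, 0], [0, 1, 1, 2, 2, 1, 1, 0], [0, 1, 1, 2, 2, 1, 1, 1], [0, 1, 1, 2, 2, 2, 1, 0],
   [0, 1, 1, 2, 2, 2, 1, 1], [0, 1, 1, 2, 2, 2, 2, 1], [1, 0, 0, 0, 0, 0, 0, 0], [1, 0, 1, 0, 0, 0, 0, 0],
   [1, 0, 1, 1, 0, 0, 0, 0], [1, 0, 1, 1, 1, 0, 0, 0], [1, 0, 1, 1, 1, 1, 0, 0], [1, 0, 1, 1, 1, 1, 1, 0],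
   [1, 0, 1, 1, 1, 1, 1, 1], [1, 1, 1, 1, 0, 0, 0, 0], [1, 1, 1, 1, 1, 0, 0, 0], [1, 1, 1, 1, 1, 1, 0, 0],
   [1, 1, 1, 1, 1, 1, 1, 0], [1, 1, 1, 1, 1, 1, 1, 1], [1, 1, 1, 2, 1, 0, 0, 0], [1, 1, 1, 2, 1, 1, 0, 0],
   [1, 1, 1, 2, 1, 1, 1, 0], [1, 1, 1, 2, 1, 1, 1, 1], [1, 1, 1, 2, 2, 1, 0, 0], [1, 1, 1, 2, 2, 1, 1, 0],
   [1, 1, 1, 2, 2, 1, 1, 1], [1, 1, 1, 2, 2, 2, 1, 0], [1, 1, 1, 2, 2, 2, 1, 1], [1, 1, 1, 2, 2, 2, 2, 1],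
   [1, 1, 2, 2, 1, 0, 0, 0], [1, 1, 2, 2, 1, 1, 0, 0], [1, 1, 2, 2, 1, 1, 1, 0], [1, 1, 2, 2, 1, 1, 1, 1],
   [1, 1, 2, 2, 2, 1, 0, 0], [1, 1, 2, 2, 2, 1, 1, 0], [1, 1, 2, 2, 2, 1, 1, 1], [1, 1, 2, 2, 2, 2, 1, 0],
   [1, 1, 2, 2, 2, 2, 1, 1], [1, 1, 2, 2, 2, 2, 2, 1], [1, 1, 2, 3, 2, 1, 0, 0], [1, 1, 2, 3, 2, 1, 1, 0],
   [1, 1, 2, 3, 2, 1, 1, 1], [1, 1, 2, 3, 2, 2, 1, 0], [1, 1, 2, 3, 2, 2, 1, 1], [1, 1, 2, 3, 2, 2, 2, 1],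
   [1, 1, 2, 3, 3, 2, 1, 0], [1, 1, 2, 3, 3, 2, 1, 1], [1, 1, 2, 3, 3, 2, 2, 1], [1, 1, 2, 3, 3, 3, 2, 1],
   [1, 2, 2, 3, 2, 1, 0, 0], [1, 2, 2, 3, 2, 1, 1, 0], [1, 2, 2, 3, 2, 1, 1, 1], [1, 2, 2, 3, 2, 2, 1, 0],
   [1, 2, 2, 3, 2, 2, 1, 1], [1, 2, 2, 3, 2, 2, 2, 1], [1, 2, 2, 3, 3, 2, 1, 0], [1, 2, 2, 3, 3, 2, 1, 1],
   [1, 2, 2, 3, 3, 2, 2, 1], [1, 2, 2, 3, 3, 3, 2, 1], [1, 2, 2, 4, 3, 2, 1, 0], [1, 2, 2, 4, 3, 2, 1, 1],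
   [1, 2, 2, 4, 3, 2, 2, 1], [1, 2, 2, 4, 3, 3, 2, 1], [1, 2, 2, 4, 4, 3, 2, 1], [1, 2, 3, 4, 3, 2, 1, 0],
   [1, 2, 3, 4, 3, 2, 1, 1], [1, 2, 3, 4, 3, 2, 2, 1], [1, 2, 3, 4, 3, 3, 2, 1], [1, 2, 3, 4, 4, 3, 2, 1],
   [1, 2, 3, 5, 4, 3, 2, 1], [1, 3, 3, 5, 4, 3, 2, 1], [2, 2, 3, 4, 3, 2, 1, 0], [2, 2, 3, 4, 3, 2, 1, 1],
   [2, 2, 3, 4, 3, 2, 2, 1], [2, 2, 3, 4, 3, 3, 2, 1], [2, 2, 3, 4, 4, 3, 2, 1], [2, 2, 3, 5, 4, 3, 2, 1],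
   [2, 2, 4, 5, 4, 3, 2, 1], [2, 3, 3, 5, 4, 3, 2, 1], [2, 3, 4, 5, 4, 3, 2, 1], [2, 3, 4, 6, 4, 3, 2, 1],
   [2, 3, 4, 6, 5, 3, 2, 1], [2, 3, 4, 6, 5, 4, 2, 1], [2, 3, 4, 6, 5, 4, 3, 1], [2, 3, 4, 6, 5, 4, 3, 2]]

theorem posTabE7 : PosTab chevE7 posE7 where
  len := by decide +kernel
  rowlen := by decide +kernel
  row := by decide +kernel

theorem posTabE8 : PosTab chevE8 posE8 where
  len := by decide +kernel
  rowlen := by decide +kernel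
  row := by decide +kernel

/-- the marks of `E₇` -/
def marksE7 : List ℕ := [2, 2, 3, 4, 3, 2, 1]

/-- the marks of `E₈` -/
def marksE8 : List ℕ := [2, 3, 4, 6, 5, 4, 3, 2]

theorem marksE7_spec : marksE7.length = chevE7.rank ∧ (∀ m ∈ marksE7, 0 < m) ∧
    ∀ j < chevE7.rank, co chevE7 (chevE7.nroots - 1) j = (marksE7.getD j 0 : ℕ) := by
  decide +kernel

theorem marksE8_spec : marksE8.length = chevE8.rank ∧ (∀ m ∈ marksE8, 0 < m) ∧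
    ∀ j < chevE8.rank, co chevE8 (chevE8.nroots - 1) j = (marksE8.getD j 0 : ℕ) := by
  decide +kernel

end Cfsg.Agent.H186
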