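import Cfsg.Agent.H186.ExcClass

/-!
# No pair of vectors of `E₇` modulo `7` with the multiplicities forced by `7² ≤ A₁₄` (helper186)
-/

set_option autoImplicit false
set_option maxRecDepth 100000

namespace Cfsg.Agent.H186

open Cfsg.Lie Cfsg.Agent.ChevalleyStructure Cfsg.Agent.ChevalleyStructure.Elts
  Cfsg.Agent.ChevalleyStructure.RootCombGood Cfsg.Agent.ChevalleyStructure.RootWord
  Cfsg.Agent.ChevalleyStructure.RootComb Cfsg.Agent.ChevalleyStructure.NPerm Cfsg.Agent.H190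

/-! ### words -/

/-- a word as a permutation of the roots -/
def wPerm {D : ChevalleyDatum} (G : Good D) (w : List ℕ) (hw : ∀ a ∈ w, a < D.rank) : Equiv.Perm (Fin D.nroots) where
  toFun r := ⟨wact D w r, wact_lt G hw r.2⟩
  invFun r := ⟨wact D w.reverse r, wact_lt G (fun a ha => hw a (List.mem_reverse.1 ha)) r.2⟩
  left_inv r := Fin.ext (wact_reverse G hw r.2)
  right_inv r := Fin.ext (wact_reverse' G hw r.2)

theorem val_wact {D : ChevalleyDatum} (G : Good D) (x : ℕ → ℤ) {w : List ℕ} (hw : ∀ a ∈ w, a < D.rank) {r : ℕ}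
    (hr : r < D.nroots) : val D x (wact D w r) = val D (fun j => val D x (wact D w (D.simple j))) r := by
  unfold val
  have h1 : ∀ j ∈ Finset.range D.rank, co D (wact D w r) j * x j =
      ∑ k ∈ Finset.range D.rank, co D r k * (co D (wact D w (D.simple k)) j * x j) := by
    intro j hj
    rw [co_wact G hw hr (Finset.mem_range.1 hj), Finset.sum_mul]
    exact Finset.sum_congr rfl fun k _ => by ring
  rw [Finset.sum_congr rfl h1, Finset.sum_comm]
  refine Finset.sum_congr rfl fun k _ => ?_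
  rw [Finset.mul_sum]

theorem rel_word {D : ChevalleyDatum} (G : Good D) (ℓ : ℕ) (x y : ℕ → ℤ) {w : List ℕ} (hw : ∀ a ∈ w, a < D.rank) :
    Rel D ℓ x y (fun j => val D x (wact D w (D.simple j))) (fun j => val D y (wact D w (D.simple j))) := by
  refine ⟨wPerm G w hw, fun r => ?_⟩
  rw [← val_wact G x hw r.2, ← val_wact G y hw r.2]
  exact ⟨rfl, rfl⟩

/-- the word taking `(1,0,0,1,0,0,1)` to `(0,0,0,1,0,1,0)` modulo 7 -/
def w7 : List ℕ := [6, 5, 4, 3, 1, 2, 0, 3, 2, 4, 3, 1, 5, 4, 3, 2, 0, 6, 5, 4, 3, 1, 2, 3, 4, 5]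

theorem w7_lt : ∀ a ∈ w7, a < chevE7.rank := by decide +kernel

theorem w7_spec : ∀ j < 7, (co chevE7 (wact chevE7 w7 (chevE7.simple j)) 0 + co chevE7 (wact chevE7 w7 (chevE7.simple j)) 3 +
    co chevE7 (wact chevE7 w7 (chevE7.simple j)) 6 - (([0, 0, 0, 1, 0, 1, 0] : List ℤ).getD j 0)) % 7 = 0 := by
  decide +kernel

/-! ### the search -/

def x7 : List ℕ := [0, 0, 0, 1, 0, 1, 0]

/-- the positive roots of value `0`, `1`, `6` at `x7` -/
def Z7 : List (List ℕ) :=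
  [[0, 0, 0, 0, 0, 0, 1], [0, 0, 0, 0, 1, 0, 0], [0, 0, 1, 0, 0, 0, 0], [0, 1, 0, 0, 0, 0, 0], [1, 0, 0, 0, 0, 0, 0],
   [1, 0, 1, 0, 0, 0, 0]]

def O7 : List (List ℕ) :=
  [[0, 0, 0, 0, 0, 1, 0], [0, 0, 0, 0, 0, 1, 1], [0, 0, 0, 0, 1, 1, 0], [0, 0, 0, 0, 1, 1, 1], [0, 0, 0, 1, 0, 0, 0],
   [0, 0, 0, 1, 1, 0, 0], [0, 0, 1, 1, 0, 0, 0], [0, 0, 1, 1, 1, 0, 0], [0, 1, 0, 1, 0, 0, 0], [0, 1, 0, 1, 1, 0, 0],
   [0, 1, 1, 1, 0, 0, 0], [0, 1, 1, 1, 1, 0, 0], [1, 0, 1, 1, 0, 0, 0], [1, 0, 1, 1, 1, 0, 0], [1, 1, 1, 1, 0, 0, 0],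
   [1, 1, 1, 1, 1, 0, 0]]

def P7 : List (List ℕ) := [[1, 2, 2, 4, 3, 2, 1], [1, 2, 3, 4, 3, 2, 1], [2, 2, 3, 4, 3, 2, 1]]

theorem Z7_eq : (posE7.filter fun row => Nat.beq (dotL row x7 % 7) 0) = Z7 := by decide +kernel
theorem O7_eq : (posE7.filter fun row => Nat.beq (dotL row x7 % 7) 1) = O7 := by decide +kernel
theorem P7_eq : (posE7.filter fun row => Nat.beq (dotL row x7 % 7) 6) = P7 := by decide +kernel

/-- `32 ^ v + 32 ^ (-v)` -/
def wt (v : ℕ) : ℕ := Nat.add (Nat.pow 32 (Nat.mod v 7)) (Nat.pow 32 (Nat.mod (Nat.sub 7 (Nat.mod v 7)) 7))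

/-- the histogram of `y` on the roots of value `0` -/
def hZ (a b c e g : ℕ) : ℕ :=
  Nat.add (wt g) (Nat.add (wt e) (Nat.add (wt c) (Nat.add (wt b) (Nat.add (wt a) (wt (Nat.add a c))))))

/-- the histogram of `y` on the roots of value `1` -/
def hO (Y : List ℕ) : ℕ :=
  Nat.add (sumL (fun row => Nat.pow 32 (Nat.mod (dotL row Y) 7)) O7)
    (sumL (fun row => Nat.pow 32 (Nat.mod (Nat.sub 7 (Nat.mod (dotL row Y) 7)) 7)) P7)

def all7 (P : ℕ → Bool) : Bool := and (P 0) (and (P 1) (and (P 2) (and (P 3) (and (P 4) (and (P 5) (P 6))))))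

theorem all7_spec {P : ℕ → Bool} (h : all7 P = true) : ∀ v < 7, P v = true := by
  unfold all7 at h
  simp only [Bool.and_eq_true] at h
  obtain ⟨h0, h1, h2, h3, h4, h5, h6⟩ := h
  intro v hv
  interval_cases v <;> assumption

/-- `6 + ∑ 32^k` -/
def cZ : ℕ := 6 + 32 + 32 ^ 2 + 32 ^ 3 + 32 ^ 4 + 32 ^ 5 + 32 ^ 6

/-- `1 + 3 ∑ 32^k` -/
def cO : ℕ := 1 + 3 * 32 + 3 * 32 ^ 2 + 3 * 32 ^ 3 + 3 * 32 ^ 4 + 3 * 32 ^ 5 + 3 * 32 ^ 6

def search7 : Bool :=
  all7 fun a => all7 fun b => all7 fun c => all7 fun e => all7 fun g =>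
    or (not (Nat.beq (hZ a b c e g) 1108378662)) (all7 fun d => all7 fun f => not (Nat.beq (hO [a, b, c, d, e, f, g]) 3325135969))

theorem cZ_eq : cZ = 1108378662 := by norm_num [cZ]
theorem cO_eq : cO = 3325135969 := by norm_num [cO]

theorem search7_ok : search7 = true := by decide +kernel

theorem sum_ite_filter {α : Type} (p : α → Bool) (q : α → Prop) [DecidablePred q] (hpq : ∀ a, q a ↔ p a = true) (f : α → ℕ) :
    ∀ l : List α, (l.map fun a => if q a then f a else 0).sum = sumL f (l.filter p)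
  | [] => rfl
  | a :: l => by
    rw [List.map_cons, List.sum_cons, sum_ite_filter p q hpq f l, List.filter_cons]
    by_cases h : q a
    · rw [if_pos h, if_pos ((hpq a).1 h)]
      rfl
    · rw [if_neg h, if_neg (fun h' => h ((hpq a).2 h')), zero_add]

theorem natBeq_iff (a b : ℕ) : Nat.beq a b = true ↔ a = b :=
  ⟨Nat.eq_of_beq_eq_true, fun h => h ▸ Nat.beq_refl a⟩

theorem cast7_eq (n : ℕ) (a : ℕ) (ha : a < 7) : ((n : ℕ) : ZMod 7) = ((a : ℕ) : ZMod 7) ↔ n % 7 = a := by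
  rw [ZMod.natCast_eq_natCast_iff', Nat.mod_eq_of_lt ha]

theorem sum_map_add' {α : Type} (f g : α → ℕ) : ∀ l : List α, (l.map fun a => f a + g a).sum = (l.map f).sum + (l.map g).sum
  | [] => rfl
  | a :: l => by
    rw [List.map_cons, List.sum_cons, sum_map_add' f g l, List.map_cons, List.map_cons, List.sum_cons, List.sum_cons]
    ring

theorem sum0 {x y : ℕ → ℤ} {a b c d e f g : ℕ} (hX : Repr chevE7 7 x x7) (hY : Repr chevE7 7 y [a, b, c, d, e, f, g]) :
    ∑ v : ZMod 7, N2 chevE7 7 x y 0 v * 32 ^ v.val = hZ a b c e g := by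
  rw [← sum_pow_N2, sum_roots goodE7 posTabE7 (fun u v => if u = 0 then 32 ^ v.val else 0) hX hY]
  have h1 : ∀ row : List ℕ, ((if ((dotL row x7 : ℕ) : ZMod 7) = 0 then 32 ^ ((dotL row [a, b, c, d, e, f, g] : ℕ) : ZMod 7).val else 0) +
      (if -((dotL row x7 : ℕ) : ZMod 7) = 0 then 32 ^ (-((dotL row [a, b, c, d, e, f, g] : ℕ) : ZMod 7)).val else 0)) =
      if dotL row x7 % 7 = 0 then wt (dotL row [a, b, c, d, e, f, g]) else 0 := by
    intro row
    have e1 : ((dotL row x7 : ℕ) : ZMod 7) = 0 ↔ dotL row x7 % 7 = 0 := by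
      have := cast7_eq (dotL row x7) 0 (by norm_num)
      rwa [Nat.cast_zero] at this
    by_cases h : dotL row x7 % 7 = 0
    · rw [if_pos (e1.2 h), if_pos (by rw [neg_eq_zero]; exact e1.2 h), if_pos h, ZMod.val_natCast, val_neg_cast]
      rfl
    · rw [if_neg (fun h' => h (e1.1 h')), if_neg (fun h' => h (e1.1 (neg_eq_zero.1 h'))), if_neg h]
  simp_rw [h1]
  rw [sum_ite_filter (fun row => Nat.beq (dotL row x7 % 7) 0) _ (fun row => (natBeq_iff _ _).symm), Z7_eq]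
  unfold hZ Z7
  show Nat.add (wt _) (Nat.add (wt _) (Nat.add (wt _) (Nat.add (wt _) (Nat.add (wt _) (Nat.add (wt _) 0))))) = _
  have e1 : dotL [0, 0, 0, 0, 0, 0, 1] [a, b, c, d, e, f, g] = g := by simp only [dotL_cons, dotL_nil]; ring
  have e2 : dotL [0, 0, 0, 0, 1, 0, 0] [a, b, c, d, e, f, g] = e := by simp only [dotL_cons, dotL_nil]; ring
  have e3 : dotL [0, 0, 1, 0, 0, 0, 0] [a, b, c, d, e, f, g] = c := by simp only [dotL_cons, dotL_nil]; ring
  have e4 : dotL [0, 1, 0, 0, 0, 0, 0] [a, b, c, d, e, f, g] = b := by simp only [dotL_cons, dotL_nil]; ring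
  have e5 : dotL [1, 0, 0, 0, 0, 0, 0] [a, b, c, d, e, f, g] = a := by simp only [dotL_cons, dotL_nil]; ring
  have e6 : dotL [1, 0, 1, 0, 0, 0, 0] [a, b, c, d, e, f, g] = a + c := by simp only [dotL_cons, dotL_nil]; ring
  rw [e1, e2, e3, e4, e5, e6]
  rfl

theorem sum1 {x y : ℕ → ℤ} {Y : List ℕ} (hX : Repr chevE7 7 x x7) (hY : Repr chevE7 7 y Y) :
    ∑ v : ZMod 7, N2 chevE7 7 x y 1 v * 32 ^ v.val = hO Y := by
  rw [← sum_pow_N2, sum_roots goodE7 posTabE7 (fun u v => if u = 1 then 32 ^ v.val else 0) hX hY, sum_map_add']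
  have h1 : ∀ row : List ℕ, (if ((dotL row x7 : ℕ) : ZMod 7) = 1 then 32 ^ ((dotL row Y : ℕ) : ZMod 7).val else 0) =
      if dotL row x7 % 7 = 1 then Nat.pow 32 (Nat.mod (dotL row Y) 7) else 0 := by
    intro row
    have e1 : ((dotL row x7 : ℕ) : ZMod 7) = 1 ↔ dotL row x7 % 7 = 1 := by
      have := cast7_eq (dotL row x7) 1 (by norm_num)
      rwa [Nat.cast_one] at this
    by_cases h : dotL row x7 % 7 = 1
    · rw [if_pos (e1.2 h), if_pos h, ZMod.val_natCast]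
      rfl
    · rw [if_neg (fun h' => h (e1.1 h')), if_neg h]
  have h2 : ∀ row : List ℕ, (if -((dotL row x7 : ℕ) : ZMod 7) = 1 then 32 ^ (-((dotL row Y : ℕ) : ZMod 7)).val else 0) =
      if dotL row x7 % 7 = 6 then Nat.pow 32 (Nat.mod (Nat.sub 7 (Nat.mod (dotL row Y) 7)) 7) else 0 := by
    intro row
    have e1 : -((dotL row x7 : ℕ) : ZMod 7) = 1 ↔ dotL row x7 % 7 = 6 := by
      have := cast7_eq (dotL row x7) 6 (by norm_num)
      rw [← this, neg_eq_iff_eq_neg]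
      have e : (-1 : ZMod 7) = ((6 : ℕ) : ZMod 7) := by decide
      rw [e]
    by_cases h : dotL row x7 % 7 = 6
    · rw [if_pos (e1.2 h), if_pos h, val_neg_cast]
      rfl
    · rw [if_neg (fun h' => h (e1.1 h')), if_neg h]
  simp_rw [h1, h2]
  rw [sum_ite_filter (fun row => Nat.beq (dotL row x7 % 7) 1) _ (fun row => (natBeq_iff _ _).symm), O7_eq,
    sum_ite_filter (fun row => Nat.beq (dotL row x7 % 7) 6) _ (fun row => (natBeq_iff _ _).symm), P7_eq]
  rfl

theorem no_pair_x7 {x y : ℕ → ℤ} (hX : Repr chevE7 7 x x7) (hz0 : N2 chevE7 7 x y 0 0 = 6)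
    (hz : ∀ k : ZMod 7, k ≠ 0 → N2 chevE7 7 x y 0 k = 1) (ho0 : N2 chevE7 7 x y 1 0 = 1)
    (ho : ∀ k : ZMod 7, k ≠ 0 → N2 chevE7 7 x y 1 k = 3) : False := by
  obtain ⟨Y, hY, hlt⟩ := exists_repr (ℓ := 7) chevE7 y
  have hlen : Y.length = 7 := hY.len
  match Y, hlen with
  | [a, b, c, d, e, f, g], _ =>
    have h0 := sum0 hX hY
    have h1 := sum1 hX hY
    rw [sum_zmod7, hz0, hz 1 (by decide), hz 2 (by decide), hz 3 (by decide), hz 4 (by decide), hz 5 (by decide),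
      hz 6 (by decide)] at h0
    rw [sum_zmod7, ho0, ho 1 (by decide), ho 2 (by decide), ho 3 (by decide), ho 4 (by decide), ho 5 (by decide),
      ho 6 (by decide)] at h1
    have e0 : (0 : ZMod 7).val = 0 := rfl
    have e1 : (1 : ZMod 7).val = 1 := rfl
    have e2 : (2 : ZMod 7).val = 2 := rfl
    have e3 : (3 : ZMod 7).val = 3 := rfl
    have e4 : (4 : ZMod 7).val = 4 := rfl
    have e5 : (5 : ZMod 7).val = 5 := rfl
    have e6 : (6 : ZMod 7).val = 6 := rfl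
    rw [e0, e1, e2, e3, e4, e5, e6] at h0 h1
    norm_num at h0 h1
    have hs := search7_ok
    have ha := hlt a (by simp)
    have hb := hlt b (by simp)
    have hc := hlt c (by simp)
    have hd := hlt d (by simp)
    have he := hlt e (by simp)
    have hf := hlt f (by simp)
    have hg := hlt g (by simp)
    have s1 := all7_spec (all7_spec (all7_spec (all7_spec (all7_spec hs a ha) b hb) c hc) e he) g hg
    rw [← h0, Bool.or_eq_true] at s1
    rcases s1 with s1 | s1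
    · have : Nat.beq 1108378662 1108378662 = true := rfl
      rw [this] at s1
      exact absurd s1 (by decide)
    · have s2 := all7_spec (all7_spec s1 d hd) f hf
      rw [← h1] at s2
      have : Nat.beq 3325135969 3325135969 = true := rfl
      rw [this] at s2
      exact absurd s2 (by decide)

/-- **there is no pair of vectors of `E₇` modulo `7` with the multiplicities forced by `7² ≤ A₁₄`.** -/
theorem no_pair7 {x y : ℕ → ℤ} (h0 : N1 chevE7 7 x 0 = 12) (h1 : ∀ a : ZMod 7, a ≠ 0 → N1 chevE7 7 x a = 19)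
    (hz0 : N2 chevE7 7 x y 0 0 = 6) (hz : ∀ k : ZMod 7, k ≠ 0 → N2 chevE7 7 x y 0 k = 1)
    (ho0 : N2 chevE7 7 x y 1 0 = 1) (ho : ∀ k : ZMod 7, k ≠ 0 → N2 chevE7 7 x y 1 k = 3) : False := by
  obtain ⟨x', y', X, hr, hX, hmem⟩ := exists_list goodE7 alcE7 (ℓ := 7) (by norm_num) marksE7_spec x y
  have h2 := hist_eq goodE7 posTabE7 256 hX
  rw [hist7 (N1 chevE7 7 x') (μ := 19) (fun a ha => by rw [hr.N1_eq]; exact h1 a ha), hr.N1_eq, h0] at h2
  have h3 := allIn_spec ratChk7' X hmem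
  rw [← h2] at h3
  have e : Nat.beq (12 + 19 * 282578800148736) (12 + 19 * 282578800148736) = true := Nat.beq_refl _
  rw [e, Bool.not_true, Bool.false_or, Bool.or_eq_true] at h3
  have key : ∀ x₂ y₂ : ℕ → ℤ, Rel chevE7 7 x y x₂ y₂ → Repr chevE7 7 x₂ x7 → False := by
    intro x₂ y₂ hr₂ hX₂
    exact no_pair_x7 hX₂ (by rw [hr₂.N2_eq, hz0]) (fun k hk => by rw [hr₂.N2_eq, hz k hk]) (by rw [hr₂.N2_eq, ho0])
      (fun k hk => by rw [hr₂.N2_eq, ho k hk])
  rcases h3 with h3 | h3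
  · rw [beq_iff_eq] at h3
    subst h3
    exact key x' y' hr hX
  · rw [beq_iff_eq] at h3
    subst h3
    refine key _ _ (hr.trans (rel_word goodE7 7 x' y' w7_lt)) ⟨rfl, fun j hj => ?_⟩
    have hj7 : j < 7 := hj
    have hs := w7_spec j hj7
    have hlt : wact chevE7 w7 (chevE7.simple j) < chevE7.nroots := wact_lt goodE7 w7_lt (goodE7.simple_lt hj)
    generalize hm : wact chevE7 w7 (chevE7.simple j) = m at hs hlt ⊢
    have hv : ((val chevE7 x' m : ℤ) : ZMod 7) = ((co chevE7 m 0 + co chevE7 m 3 + co chevE7 m 6 : ℤ) : ZMod 7) := by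
      unfold val
      have hrk : chevE7.rank = 7 := rfl
      rw [hrk]
      simp only [Finset.sum_range_succ, Finset.sum_range_zero]
      push_cast
      have q : ∀ i < 7, ((x' i : ℤ) : ZMod 7) = ((([1, 0, 0, 1, 0, 0, 1] : List ℕ).getD i 0 : ℕ) : ZMod 7) := hX.eq
      rw [q 0 (by norm_num), q 1 (by norm_num), q 2 (by norm_num), q 3 (by norm_num), q 4 (by norm_num), q 5 (by norm_num),
        q 6 (by norm_num)]
      simp
    rw [hv]
    have hdvd : ((7 : ℕ) : ℤ) ∣ (co chevE7 m 0 + co chevE7 m 3 + co chevE7 m 6 - (([0, 0, 0, 1, 0, 1, 0] : List ℤ).getD j 0)) :=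
      Int.dvd_of_emod_eq_zero (by exact_mod_cast hs)
    rw [← ZMod.intCast_zmod_eq_zero_iff_dvd, Int.cast_sub, sub_eq_zero] at hdvd
    rw [hdvd]
    unfold x7
    interval_cases j <;> simp

end Cfsg.Agent.H186
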