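import Cfsg.Agent.H190.Chev
import Cfsg.Agent.ChevalleyStructure.RootWord
import Cfsg.Agent.ChevalleyStructure.RootComb

/-!
# Torus elements of order `ℓ` as vectors (helper186)

`val D x r = ∑ co(r,j) x_j`.  In the simply laced types the entry of a torus element at `r` is `∏ (ent at α_j)^co(r,j)`; a
torus element of order dividing `ℓ` is given by an integer vector.
-/

set_option autoImplicit false

namespace Cfsg.Agent.H186

open Cfsg.Lie Cfsg.Agent.ChevalleyStructure Cfsg.Agent.ChevalleyStructure.Elts
  Cfsg.Agent.ChevalleyStructure.RootCombGood Cfsg.Agent.ChevalleyStructure.RootWord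
  Cfsg.Agent.ChevalleyStructure.RootComb
  Cfsg.Agent.ChevalleyStructure.NPerm Cfsg.Agent.H190

universe u

/-- the value of the root `r` at the integer vector `x` (the values of the simple roots) -/
def val (D : ChevalleyDatum) (x : ℕ → ℤ) (r : ℕ) : ℤ := ∑ j ∈ Finset.range D.rank, co D r j * x j

/-- the Cartan matrix is symmetric -/
def SL (D : ChevalleyDatum) : Prop := ∀ i < D.rank, ∀ j < D.rank, D.cartan i (D.simple j) = D.cartan j (D.simple i)

theorem slE7 : SL chevE7 := by
  unfold SL
  decide +kernel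

theorem slE8 : SL chevE8 := by
  unfold SL
  decide +kernel

variable {D : ChevalleyDatum}

theorem car_simple_symm (G : Good D) (h : SL D) {s : ℕ} (hs : s < D.nroots) :
    ∀ i < D.rank, D.cartan i s = car D s (D.simple i) := by
  refine root_induction G (P := fun s => ∀ i < D.rank, D.cartan i s = car D s (D.simple i)) ?_ ?_ s hs
  · intro j hj i hi
    rw [car_simple G hj, h i hi j hj]
  · intro k hk s hs ih i hi
    rw [G.cartan_reflect hk hs hi, car_reflect_left G hk hs, ih i hi, ih k hk, h k hk i hi]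

theorem car_symm (G : Good D) (h : SL D) {r s : ℕ} (hr : r < D.nroots) (hs : s < D.nroots) :
    car D r s = car D s r := by
  refine root_induction G (P := fun r => ∀ s < D.nroots, car D r s = car D s r) ?_ ?_ r hr s hs
  · intro i hi s hs
    rw [car_simple G hi, car_simple_symm G h hs i hi]
  · intro i hi r hr ih s hs
    have h1 := car_reflect G hi (G.reflect_lt hi hs) hr
    have h2 := car_reflect G hi hr (G.reflect_lt hi hs)
    rw [G.reflect_reflect hi hs] at h1 h2
    rw [h2, h1]
    exact ih _ (G.reflect_lt hi hs)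

theorem cartan_eq_sum (G : Good D) (h : SL D) {s : ℕ} (hs : s < D.nroots) {i : ℕ} (hi : i < D.rank) :
    D.cartan i s = ∑ j ∈ Finset.range D.rank, co D s j * D.cartan i (D.simple j) := by
  rw [car_simple_symm G h hs i hi]
  unfold car
  refine Finset.sum_congr rfl fun j hj => ?_
  rw [h j (Finset.mem_range.1 hj) i hi]

section Torus

variable {F : Type u} [Field F]

/-- the entry of a torus element at `s` in terms of the entries at the simple roots -/
theorem ent_eq_prod (hD : InList D) (h : SL D) {t : GL D.Idx F} (ht : t ∈ D.diagonalSubgroup F) (s : Fin D.nroots) :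
    ent t s = ∏ j : Fin D.rank, (ent t ⟨D.simple j, (good_of_mem hD).simple_lt j.2⟩) ^ (co D s j) := by
  have G := good_of_mem hD
  obtain ⟨c, hc, h1, -⟩ := torus_form hD ht
  rw [ent_of_dmat h1]
  simp_rw [ent_of_dmat h1]
  have e1 : ∀ i ∈ Finset.range D.rank, c i ^ D.cartan i s =
      ∏ j : Fin D.rank, (c i ^ D.cartan i (D.simple j)) ^ co D s j := by
    intro i hi
    rw [cartan_eq_sum G h s.2 (Finset.mem_range.1 hi), ← Fin.sum_univ_eq_sum_range
      (fun j => co D s j * D.cartan i (D.simple j))]
    have : ∀ (S : Finset (Fin D.rank)), c i ^ (∑ j ∈ S, co D s j * D.cartan i (D.simple j)) =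
        ∏ j ∈ S, (c i ^ D.cartan i (D.simple j)) ^ co D s j := by
      intro S
      classical
      induction S using Finset.induction_on with
      | empty => simp
      | insert a S ha ih =>
        rw [Finset.sum_insert ha, Finset.prod_insert ha, zpow_add₀ (hc i (Finset.mem_range.1 hi)), ih, mul_comm (co D s a),
          zpow_mul]
    exact this _
  rw [Finset.prod_congr rfl e1, Finset.prod_comm]
  refine Finset.prod_congr rfl fun j _ => ?_
  rw [← Finset.prod_zpow]

/-- **toral elements of order dividing `ℓ` as vectors** -/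
theorem exists_vec (hD : InList D) (h : SL D) {ℓ : ℕ} (hl : 0 < ℓ) {ζ : F} (hζ : IsPrimitiveRoot ζ ℓ)
    {t : GL D.Idx F} (ht : t ∈ D.diagonalSubgroup F) (htl : t ^ ℓ = 1) :
    ∃ x : ℕ → ℤ, ∀ s : Fin D.nroots, ent t s = ζ ^ (val D x s) := by
  have G := good_of_mem hD
  have : NeZero ℓ := ⟨hl.ne'⟩
  have hpow : ∀ s : Fin D.nroots, ent t s ^ ℓ = 1 := by
    intro s
    have h1 : ∀ m : ℕ, ent (t ^ m) s = ent t s ^ m := by
      intro m
      induction m with
      | zero =>
        rw [pow_zero, pow_zero]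
        show ((1 : GL D.Idx F) : Matrix D.Idx D.Idx F) (Sum.inr s) (Sum.inr s) = 1
        rw [Units.val_one, Matrix.one_apply_eq]
      | succ m ih =>
        rw [pow_succ, pow_succ, ent_mul hD (pow_mem ht m) ht, ih]
    rw [← h1, htl]
    show ((1 : GL D.Idx F) : Matrix D.Idx D.Idx F) (Sum.inr s) (Sum.inr s) = 1
    rw [Units.val_one, Matrix.one_apply_eq]
  have hex : ∀ j : Fin D.rank, ∃ k : ℕ, ent t ⟨D.simple j, G.simple_lt j.2⟩ = ζ ^ k := by
    intro j
    obtain ⟨k, -, hk⟩ := hζ.eq_pow_of_pow_eq_one (hpow ⟨D.simple j, G.simple_lt j.2⟩)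
    exact ⟨k, hk.symm⟩
  choose k hk using hex
  refine ⟨fun j => if hj : j < D.rank then (k ⟨j, hj⟩ : ℤ) else 0, fun s => ?_⟩
  rw [ent_eq_prod hD h ht]
  unfold val
  rw [← Fin.sum_univ_eq_sum_range (fun j => co D s j * if hj : j < D.rank then (k ⟨j, hj⟩ : ℤ) else 0)]
  have hζ0 : ζ ≠ 0 := hζ.ne_zero hl.ne'
  have : ∀ (S : Finset (Fin D.rank)), ζ ^ (∑ j ∈ S, co D s j * (if hj : (j : ℕ) < D.rank then (k ⟨j, hj⟩ : ℤ) else 0)) =
      ∏ j ∈ S, (ent t ⟨D.simple j, G.simple_lt j.2⟩) ^ co D s j := by
    intro S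
    classical
    induction S using Finset.induction_on with
    | empty => simp
    | insert a S ha ih =>
      rw [Finset.sum_insert ha, Finset.prod_insert ha, zpow_add₀ hζ0, ih, hk a, dif_pos a.2, mul_comm (co D s a), zpow_mul,
        zpow_natCast]
  exact (this _).symm

end Torus

end Cfsg.Agent.H186
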