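import Mathlib

/-!
# Hilbert 90 and surjectivity of the norm for finite commutative rings with involution (helper186)

`S` a finite commutative ring containing a field `K`, `τ` an involution of `S` inducing on `K` a non-trivial
automorphism `σ`.

* `hilbert90` : `c * τ c = 1` implies `c * τ d = d` for some unit `d`;
* `exists_norm` : every unit `s` with `τ s = s` is `c * τ c`;
* `hilbert90_sub`, `exists_norm_sub` : the same for a commutative subalgebra of a finite algebra;
* `exists_norm_adjoin` : `A` a finite `K`-algebra with a `σ`-semilinear involutive antiautomorphism `st`; every unit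
  `s` with `st s = s` is `st c * c` with `c` a unit in `K[s]`;
* `exists_symm` : for a unit `x` of `A` there is a unit `c ∈ K[x⁻¹ st x]` with `st (x c) = x c`.
-/

set_option autoImplicit false

namespace Cfsg.Agent.H186

section Comm

variable {S K : Type*} [CommRing S] [Finite S] [Field K] [Algebra K S]

/-- Hilbert 90 for a finite commutative ring with an involution which is not trivial on a subfield. -/
theorem hilbert90 (τ : S →+* S) (hτ : ∀ x, τ (τ x) = x) (σ : K → K) (hσ : ∃ x, σ x ≠ x)
    (hK : ∀ x : K, τ (algebraMap K S x) = algebraMap K S (σ x)) (c : S) (hc : c * τ c = 1) :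
    ∃ d : Sˣ, c * τ (d : S) = d := by
  classical
  -- the conjugate of a maximal ideal
  have hbij : Function.Bijective τ :=
    ⟨fun a b h => by rw [← hτ a, h, hτ], fun b => ⟨τ b, hτ b⟩⟩
  let cj : MaximalSpectrum S → MaximalSpectrum S := fun M =>
    ⟨M.asIdeal.comap τ, by
      have := M.isMaximal
      exact Ideal.comap_isMaximal_of_surjective τ hbij.2⟩
  have hcj : ∀ M, cj (cj M) = M := by
    intro M
    apply MaximalSpectrum.ext
    ext x
    change τ (τ x) ∈ M.asIdeal ↔ x ∈ M.asIdeal
    rw [hτ]
  have hcunit : IsUnit c := IsUnit.of_mul_eq_one _ hc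
  -- for fixed ideals
  have hfix : ∀ M : MaximalSpectrum S, cj M = M →
      ∃ k : K, algebraMap K S k + c * τ (algebraMap K S k) ∉ M.asIdeal := by
    intro M hM
    by_contra hcon
    push Not at hcon
    obtain ⟨x, hx⟩ := hσ
    have h1 := hcon 1
    rw [map_one, map_one, mul_one] at h1
    have hx1 := hcon x
    rw [hK] at hx1
    have h2 : algebraMap K S x - algebraMap K S (σ x) ∈ M.asIdeal := by
      have : algebraMap K S x - algebraMap K S (σ x) =
          (algebraMap K S x + c * algebraMap K S (σ x)) - (1 + c) * algebraMap K S (σ x) := by ring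
      rw [this]
      exact Ideal.sub_mem _ hx1 (Ideal.mul_mem_right _ _ h1)
    rw [← map_sub] at h2
    have h3 : IsUnit (algebraMap K S (x - σ x)) :=
      (isUnit_iff_ne_zero.2 (sub_ne_zero.2 (Ne.symm hx))).map _
    exact M.isMaximal.ne_top (Ideal.eq_top_of_isUnit_mem _ h2 h3)
  choose! kf hkf using hfix
  -- the local choices
  let g : MaximalSpectrum S → S := fun M =>
    if cj M = M then algebraMap K S (kf M) else if WellOrderingRel M (cj M) then 1 else 0
  obtain ⟨x, hx'⟩ := Ideal.exists_forall_sub_mem_ideal (I := fun M : MaximalSpectrum S => M.asIdeal) (by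
      intro M N hMN
      exact Ideal.isCoprime_iff_sup_eq.2 (Ideal.IsMaximal.coprime_of_ne M.isMaximal N.isMaximal
        (fun h => hMN (MaximalSpectrum.ext h)))) g
  have hd : IsUnit (x + c * τ x) := by
    by_contra hnon
    obtain ⟨I, hI, hmem⟩ := exists_max_ideal_of_mem_nonunits hnon
    let M : MaximalSpectrum S := ⟨I, hI⟩
    have hm : x + c * τ x ∈ M.asIdeal := hmem
    have hx1 := hx' M
    have hx2 : τ x - τ (g (cj M)) ∈ M.asIdeal := by
      have := hx' (cj M)
      rw [← map_sub]
      exact this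
    have hkey : g M + c * τ (g (cj M)) ∈ M.asIdeal := by
      have : g M + c * τ (g (cj M)) =
          (x + c * τ x) - (x - g M) - c * (τ x - τ (g (cj M))) := by ring
      rw [this]
      exact Ideal.sub_mem _ (Ideal.sub_mem _ hm hx1) (Ideal.mul_mem_left _ _ hx2)
    by_cases hM : cj M = M
    · rw [hM] at hkey
      have hg : g M = algebraMap K S (kf M) := by simp only [g, if_pos hM]
      rw [hg] at hkey
      exact hkf M hM hkey
    · have hM2 : cj (cj M) ≠ cj M := by rw [hcj]; exact fun h => hM h.symm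
      by_cases hlt : WellOrderingRel M (cj M)
      · have hg : g M = 1 := by simp only [g, if_neg hM, if_pos hlt]
        have hg2 : g (cj M) = 0 := by
          have hnl : ¬ WellOrderingRel (cj M) (cj (cj M)) := by
            rw [hcj]; exact fun h => asymm h hlt
          simp only [g, if_neg hM2, if_neg hnl]
        rw [hg, hg2, map_zero, mul_zero, add_zero] at hkey
        exact M.isMaximal.ne_top ((Ideal.eq_top_iff_one _).2 hkey)
      · have hg : g M = 0 := by simp only [g, if_neg hM, if_neg hlt]
        have hlt2 : WellOrderingRel (cj M) M := by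
          rcases trichotomous_of WellOrderingRel M (cj M) with h | h | h
          · exact absurd h hlt
          · exact absurd h.symm hM
          · exact h
        have hg2 : g (cj M) = 1 := by
          have hnl : WellOrderingRel (cj M) (cj (cj M)) := by rw [hcj]; exact hlt2
          simp only [g, if_neg hM2, if_pos hnl]
        rw [hg, hg2, map_one, mul_one, zero_add] at hkey
        exact M.isMaximal.ne_top (Ideal.eq_top_of_isUnit_mem _ hkey hcunit)
  refine ⟨hd.unit, ?_⟩
  rw [IsUnit.unit_spec, map_add, map_mul, hτ]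
  calc c * (τ x + τ c * x) = c * τ x + (c * τ c) * x := by ring
    _ = x + c * τ x := by rw [hc]; ring

/-- The norm is surjective onto the fixed units. -/
theorem exists_norm (τ : S →+* S) (hτ : ∀ x, τ (τ x) = x) (σ : K → K) (hσ : ∃ x, σ x ≠ x)
    (hK : ∀ x : K, τ (algebraMap K S x) = algebraMap K S (σ x)) (s : Sˣ) (hs : τ (s : S) = s) :
    ∃ c : Sˣ, (c : S) * τ c = s := by
  classical
  let T : Sˣ →* Sˣ := Units.map (τ : S →* S)
  have hT : ∀ u : Sˣ, ((T u : Sˣ) : S) = τ (u : S) := fun u => rfl
  have hTT : ∀ u, T (T u) = u := fun u => Units.ext (by rw [hT, hT, hτ])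
  let N : Sˣ →* Sˣ := MonoidHom.id _ * T
  let D : Sˣ →* Sˣ := MonoidHom.id _ / T
  have hN : ∀ u, N u = u * T u := fun u => rfl
  have hD : ∀ u, D u = u / T u := fun u => rfl
  have hker : N.ker = D.range := by
    ext c
    rw [MonoidHom.mem_ker, MonoidHom.mem_range, hN]
    constructor
    · intro h
      have h' : (c : S) * τ c = 1 := by
        have := congrArg Units.val h
        simpa [hT] using this
      obtain ⟨d, hd⟩ := hilbert90 τ hτ σ hσ hK (c : S) h'
      refine ⟨d, ?_⟩
      rw [hD, div_eq_iff_eq_mul]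
      apply Units.ext
      rw [Units.val_mul, hT, hd]
    · rintro ⟨d, rfl⟩
      rw [hD, map_div, hTT, div_mul_div_cancel, div_self']
  have h1 : Nat.card N.ker * Nat.card N.range = Nat.card Sˣ := by
    rw [← Nat.card_congr (QuotientGroup.quotientKerEquivRange N).toEquiv, mul_comm]
    exact (Subgroup.card_eq_card_quotient_mul_card_subgroup N.ker).symm
  have h2 : Nat.card D.ker * Nat.card D.range = Nat.card Sˣ := by
    rw [← Nat.card_congr (QuotientGroup.quotientKerEquivRange D).toEquiv, mul_comm]
    exact (Subgroup.card_eq_card_quotient_mul_card_subgroup D.ker).symm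
  have hle : N.range ≤ D.ker := by
    rintro _ ⟨c, rfl⟩
    rw [MonoidHom.mem_ker, hD, hN, map_mul, hTT, mul_comm (T c) c, div_self']
  have hcard : Nat.card D.ker = Nat.card N.range := by
    rw [hker] at h1
    have hpos : 0 < Nat.card D.range := Nat.card_pos
    have : Nat.card D.ker * Nat.card D.range = Nat.card N.range * Nat.card D.range := by
      rw [h2, ← h1, mul_comm]
    exact Nat.eq_of_mul_eq_mul_right hpos this
  have heq : N.range = D.ker := Subgroup.eq_of_le_of_card_ge hle hcard.le
  have hsm : s ∈ N.range := by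
    rw [heq, MonoidHom.mem_ker, hD, div_eq_one]
    apply Units.ext
    rw [hT, hs]
  obtain ⟨c, hc⟩ := hsm
  refine ⟨c, ?_⟩
  have := congrArg Units.val hc
  rw [hN, Units.val_mul, hT] at this
  exact this

end Comm

section Sub

variable {A K : Type*} [Ring A] [Finite A] [Field K] [Algebra K A]

/-- In a finite ring the inverse of a unit is one of its powers. -/
theorem exists_pow_inv {s : A} (hs : IsUnit s) : ∃ k : ℕ, s ^ k * s = 1 ∧ s * s ^ k = 1 := by
  obtain ⟨u, rfl⟩ := hs
  have h : 0 < orderOf u := orderOf_pos u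
  refine ⟨orderOf u - 1, ?_, ?_⟩
  · rw [← pow_succ, Nat.sub_add_cancel h, ← Units.val_pow_eq_pow_val, pow_orderOf_eq_one, Units.val_one]
  · rw [← pow_succ', Nat.sub_add_cancel h, ← Units.val_pow_eq_pow_val, pow_orderOf_eq_one, Units.val_one]

/-- `hilbert90` and `exists_norm` for a commutative subalgebra `S` of a finite algebra. -/
theorem hilbert90_sub (S : Subalgebra K A) (hcomm : ∀ a ∈ S, ∀ b ∈ S, a * b = b * a) (τ : A → A)
    (hmem : ∀ a ∈ S, τ a ∈ S) (hadd : ∀ a ∈ S, ∀ b ∈ S, τ (a + b) = τ a + τ b)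
    (hmul : ∀ a ∈ S, ∀ b ∈ S, τ (a * b) = τ a * τ b) (hinv : ∀ a ∈ S, τ (τ a) = a)
    (σ : K → K) (hσ : ∃ x, σ x ≠ x) (hK : ∀ x : K, τ (algebraMap K A x) = algebraMap K A (σ x)) :
    (∀ c ∈ S, c * τ c = 1 → ∃ d ∈ S, IsUnit d ∧ c * τ d = d) ∧
    (∀ s ∈ S, IsUnit s → τ s = s → ∃ c ∈ S, IsUnit c ∧ c * τ c = s) := by
  classical
  let inst : CommRing S := { (inferInstance : Ring S) with
    mul_comm := fun a b => Subtype.ext (hcomm a.1 a.2 b.1 b.2) }
  have h0 : τ 0 = 0 := by
    have := hadd 0 S.zero_mem 0 S.zero_mem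
    rw [add_zero] at this
    exact left_eq_add.1 this
  let i1 : Algebra K S := Subalgebra.algebra S
  have h1S : τ 1 * τ 1 = τ 1 := by rw [← hmul 1 S.one_mem 1 S.one_mem, mul_one]
  have h1 : τ 1 = 1 := by
    have h2 := hmul 1 S.one_mem (τ 1) (hmem 1 S.one_mem)
    rw [one_mul, hinv 1 S.one_mem, mul_one] at h2
    exact h2.symm
  let τ' : S →+* S :=
    { toFun := fun a => ⟨τ a.1, hmem a.1 a.2⟩
      map_one' := Subtype.ext h1
      map_mul' := fun a b => Subtype.ext (hmul a.1 a.2 b.1 b.2)
      map_zero' := Subtype.ext h0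
      map_add' := fun a b => Subtype.ext (hadd a.1 a.2 b.1 b.2) }
  have hτ' : ∀ x, τ' (τ' x) = x := fun x => Subtype.ext (hinv x.1 x.2)
  have hK' : ∀ x : K, τ' (algebraMap K S x) = algebraMap K S (σ x) := fun x => Subtype.ext (hK x)
  have hval : ∀ u : Sˣ, IsUnit ((u : S) : A) := fun u => u.isUnit.map S.val
  constructor
  · intro c hc h
    obtain ⟨d, hd⟩ := @hilbert90 S K inst _ _ i1 τ' hτ' σ hσ hK' ⟨c, hc⟩ (Subtype.ext h)
    exact ⟨(d : S), (d : S).2, hval d, congrArg Subtype.val hd⟩
  · intro s hs hu h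
    obtain ⟨k, hk1, hk2⟩ := exists_pow_inv hu
    let u : Sˣ := ⟨⟨s, hs⟩, ⟨s ^ k, S.pow_mem hs k⟩, Subtype.ext hk2, Subtype.ext hk1⟩
    obtain ⟨c, hc⟩ := @exists_norm S K inst _ _ i1 τ' hτ' σ hσ hK' u (Subtype.ext h)
    exact ⟨(c : S), (c : S).2, hval c, congrArg Subtype.val hc⟩

/-- Elements of `K[s]` commute with each other. -/
theorem adjoin_comm (s : A) : ∀ a ∈ Algebra.adjoin K {s}, ∀ b ∈ Algebra.adjoin K {s}, a * b = b * a := by
  intro a ha b hb
  have h1 : ∀ a ∈ Algebra.adjoin K {s}, a * s = s * a := by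
    intro a ha
    induction ha using Algebra.adjoin_induction with
    | mem x hx => rw [Set.mem_singleton_iff.1 hx]
    | algebraMap r => exact Algebra.commutes r s
    | add x y _ _ hx hy => rw [add_mul, mul_add, hx, hy]
    | mul x y _ _ hx hy => rw [mul_assoc, hy, ← mul_assoc, hx, mul_assoc]
  induction hb using Algebra.adjoin_induction with
  | mem x hx => rw [Set.mem_singleton_iff.1 hx]; exact h1 a ha
  | algebraMap r => exact (Algebra.commutes r a).symm
  | add x y _ _ hx hy => rw [add_mul, mul_add, hx, hy]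
  | mul x y _ _ hx hy => rw [← mul_assoc, hx, mul_assoc, hy, mul_assoc]

/-- Elements commuting with `s` commute with `K[s]`. -/
theorem commute_adjoin {s g : A} (h : g * s = s * g) : ∀ a ∈ Algebra.adjoin K {s}, g * a = a * g := by
  intro a ha
  induction ha using Algebra.adjoin_induction with
  | mem x hx => rw [Set.mem_singleton_iff.1 hx]; exact h
  | algebraMap r => exact (Algebra.commutes r g).symm
  | add x y _ _ hx hy => rw [add_mul, mul_add, hx, hy]
  | mul x y _ _ hx hy => rw [← mul_assoc, hx, mul_assoc, hy, mul_assoc]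

/-- A unit `s` of `A` fixed by a `σ`-semilinear involutive antiautomorphism `st` is `st c * c`, `c` a unit in `K[s]`. -/
theorem exists_norm_adjoin (st : A → A) (hadd : ∀ a b, st (a + b) = st a + st b)
    (hmul : ∀ a b, st (a * b) = st b * st a) (hinv : ∀ a, st (st a) = a)
    (σ : K → K) (hσ : ∃ x, σ x ≠ x) (hK : ∀ x : K, st (algebraMap K A x) = algebraMap K A (σ x))
    (s : A) (hs : IsUnit s) (hst : st s = s) :
    ∃ c ∈ Algebra.adjoin K {s}, IsUnit c ∧ st c * c = s := by
  have hmem : ∀ a ∈ Algebra.adjoin K {s}, st a ∈ Algebra.adjoin K {s} := by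
    intro a ha
    induction ha using Algebra.adjoin_induction with
    | mem x hx => rw [Set.mem_singleton_iff.1 hx, hst]; exact Algebra.self_mem_adjoin_singleton K s
    | algebraMap r => rw [hK]; exact Subalgebra.algebraMap_mem _ _
    | add x y _ _ hx hy => rw [hadd]; exact Subalgebra.add_mem _ hx hy
    | mul x y _ _ hx hy => rw [hmul]; exact Subalgebra.mul_mem _ hy hx
  have hc := adjoin_comm (K := K) s
  obtain ⟨c, hcS, hcu, hcn⟩ := (hilbert90_sub (Algebra.adjoin K {s}) hc st hmem
    (fun a _ b _ => hadd a b) (fun a ha b hb => by rw [hmul, hc _ (hmem b hb) _ (hmem a ha)])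
    (fun a _ => hinv a) σ hσ hK).2 s (Algebra.self_mem_adjoin_singleton K s) hs hst
  exact ⟨c, hcS, hcu, by rw [hc _ (hmem c hcS) _ hcS, hcn]⟩

/-- For a unit `x` of `A` there is a unit `c ∈ K[x⁻¹ st x]` with `st (x c) = x c`. -/
theorem exists_symm (st : A → A) (hadd : ∀ a b, st (a + b) = st a + st b)
    (hmul : ∀ a b, st (a * b) = st b * st a) (hinv : ∀ a, st (st a) = a)
    (σ : K → K) (hσ : ∃ x, σ x ≠ x) (hK : ∀ x : K, st (algebraMap K A x) = algebraMap K A (σ x))
    (x : Aˣ) : ∃ c ∈ Algebra.adjoin K {((x⁻¹ : Aˣ) : A) * st (x : A)}, IsUnit c ∧ st (x * c) = x * c := by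
  have h1 : st 1 = 1 := by
    have h2 := hmul 1 (st 1)
    rw [one_mul, hinv, one_mul] at h2
    exact h2.symm
  set y : A := ((x⁻¹ : Aˣ) : A) with hy
  have hxy : (x : A) * y = 1 := Units.mul_inv x
  have hyx : y * (x : A) = 1 := Units.inv_mul x
  set u : A := y * st (x : A) with hu
  -- the inverse of `u`
  have hsy : st y * st (x : A) = 1 := by rw [← hmul, hxy, h1]
  have hys : st (x : A) * st y = 1 := by rw [← hmul, hyx, h1]
  set v : A := st y * (x : A) with hv
  have huv : u * v = 1 := by
    rw [hu, hv, mul_assoc, ← mul_assoc (st (x : A)), hys, one_mul, hyx]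
  have hvu : v * u = 1 := by
    rw [hu, hv, mul_assoc, ← mul_assoc (x : A), hxy, one_mul, hsy]
  have hunit : IsUnit u := ⟨⟨u, v, huv, hvu⟩, rfl⟩
  set S := Algebra.adjoin K {u} with hS
  have huS : u ∈ S := Algebra.self_mem_adjoin_singleton K u
  have hvS : v ∈ S := by
    obtain ⟨k, hk1, hk2⟩ := exists_pow_inv hunit
    have : v = u ^ k := by
      calc v = v * (u * u ^ k) := by rw [hk2, mul_one]
        _ = u ^ k := by rw [← mul_assoc, hvu, one_mul]
    rw [this]
    exact Subalgebra.pow_mem _ huS k
  let τ : A → A := fun a => y * st a * x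
  have hτu : τ u = v := by
    change y * st (y * st (x : A)) * x = st y * x
    rw [hmul, hinv, ← mul_assoc, hyx, one_mul]
  have hτmul : ∀ a b, τ (a * b) = τ b * τ a := by
    intro a b
    change y * st (a * b) * x = y * st b * x * (y * st a * x)
    rw [hmul]
    calc y * (st b * st a) * x = y * st b * 1 * st a * x := by rw [mul_one]; simp only [mul_assoc]
      _ = y * st b * x * (y * st a * x) := by rw [← hxy]; simp only [mul_assoc]
  have hτadd : ∀ a b, τ (a + b) = τ a + τ b := by
    intro a b
    change y * st (a + b) * x = _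
    rw [hadd, mul_add, add_mul]
  have hτK : ∀ k : K, τ (algebraMap K A k) = algebraMap K A (σ k) := by
    intro k
    change y * st (algebraMap K A k) * x = _
    rw [hK, ← Algebra.commutes, mul_assoc, hyx, mul_one]
  have hmem : ∀ a ∈ S, τ a ∈ S := by
    intro a ha
    induction ha using Algebra.adjoin_induction with
    | mem z hz => rw [Set.mem_singleton_iff.1 hz, hτu]; exact hvS
    | algebraMap r => rw [hτK]; exact Subalgebra.algebraMap_mem _ _
    | add z w _ _ hz hw => rw [hτadd]; exact Subalgebra.add_mem _ hz hw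
    | mul z w _ _ hz hw => rw [hτmul]; exact Subalgebra.mul_mem _ hw hz
  have hc := adjoin_comm (K := K) u
  have hττ : ∀ a ∈ S, τ (τ a) = a := by
    intro a ha
    have h2 : τ (τ a) = u * a * v := by
      change y * st (y * st a * x) * x = y * st (x : A) * a * (st y * x)
      rw [hmul, hmul, hinv]
      simp only [mul_assoc]
    rw [h2, hc u huS a ha, mul_assoc, huv, mul_one]
  have hcu : u * τ u = 1 := by rw [hτu, huv]
  obtain ⟨d, hdS, hdu, hd⟩ := (hilbert90_sub S hc τ hmem (fun a _ b _ => hτadd a b)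
    (fun a ha b hb => by rw [hτmul, hc _ (hmem b hb) _ (hmem a ha)]) hττ σ hσ hτK).1 u huS hcu
  refine ⟨d, hdS, hdu, ?_⟩
  -- `u * (y * st d * x) = d`
  have h3 : u * (y * st d * x) = d := hd
  have h4 : (y * st d * x) * u = d := by
    rw [← hc u huS _ (hmem d hdS)]; exact h3
  calc st (x * d) = st d * st (x : A) := hmul _ _
    _ = x * ((y * st d * x) * u) := by
        rw [hu]
        calc st d * st (x : A) = 1 * st d * 1 * st (x : A) := by rw [one_mul, mul_one]
          _ = (x * y) * st d * (x * y) * st (x : A) := by rw [hxy]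
          _ = _ := by simp only [mul_assoc]
    _ = x * d := by rw [h4]

end Sub

end Cfsg.Agent.H186
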