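import Mathlib
import Cfsg.Agent.H718.ConjRep
import Cfsg.Agent.Lib.FrattiniPGroup
import Cfsg.Agent.H190.Frattini

/-!
# Minimal covers of simple groups and the prime `ℓ` (helper186)

`MinCover φ`: `φ : H →* A` is onto and no proper subgroup of `H` maps onto `A`.
If `A` is simple, perfect, and has no faithful-modulo-kernel representation over `F_ℓ` of dimension `≤ m`, and the
elementary abelian `ℓ`-sections of `H` have rank `≤ m`, then the Sylow `ℓ`-subgroup of `ker φ` is central in `H`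
(`MinCover.sylow_central`).
-/

set_option autoImplicit false

namespace Cfsg.Agent.H186

open Subgroup
open scoped commutatorElement

universe u v

/-- `φ` is onto and no proper subgroup of `H` maps onto `A`. -/
structure MinCover {H : Type u} {A : Type v} [Group H] [Group A] (φ : H →* A) : Prop where
  surj : Function.Surjective φ
  min : ∀ L : Subgroup H, (∀ a, ∃ h ∈ L, φ h = a) → L = ⊤

theorem exists_min_cover {H : Type u} {A : Type v} [Group H] [Finite H] [Group A] (φ : H →* A)
    (hφ : Function.Surjective φ) : ∃ H' : Subgroup H, MinCover (φ.comp H'.subtype) := by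
  classical
  let P : Subgroup H → Prop := fun L => ∀ a, ∃ h ∈ L, φ h = a
  have hfin : (Set.univ : Set (Subgroup H)).Finite := Set.toFinite _
  obtain ⟨M, hM⟩ := (Set.toFinite {L : Subgroup H | P L}).exists_minimal
    ⟨⊤, fun a => by obtain ⟨h, hh⟩ := hφ a; exact ⟨h, mem_top h, hh⟩⟩
  refine ⟨M, ⟨fun a => ?_, fun L hL => ?_⟩⟩
  · obtain ⟨h, hh, e⟩ := hM.prop a
    exact ⟨⟨h, hh⟩, e⟩
  · have h1 : P (L.map M.subtype) := by
      intro a
      obtain ⟨h, hh, e⟩ := hL a
      exact ⟨h, ⟨h, hh, rfl⟩, e⟩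
    have h2 : L.map M.subtype ≤ M := map_subtype_le L
    have h3 := hM.le_of_le h1 h2
    rw [eq_top_iff]
    intro x _
    obtain ⟨y, hy, hyx⟩ := h3 x.2
    have : y = x := Subtype.ext hyx
    exact this ▸ hy

namespace MinCover

variable {H : Type u} {A : Type v} [Group H] [Group A] {φ : H →* A}

theorem eq_top_of_sup (h : MinCover φ) {L : Subgroup H} (hL : L ⊔ φ.ker = ⊤) : L = ⊤ := by
  apply h.min
  intro a
  obtain ⟨x, rfl⟩ := h.surj a
  have hx : x ∈ L ⊔ φ.ker := hL ▸ mem_top x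
  obtain ⟨y, hy, z, hz, rfl⟩ := mem_sup_of_normal_right.1 hx
  exact ⟨y, hy, by rw [map_mul, MonoidHom.mem_ker.1 hz, mul_one]⟩

/-- normal subgroups of a minimal cover of a simple group -/
theorem normal_le_or (h : MinCover φ) [IsSimpleGroup A] (C : Subgroup H) [hC : C.Normal] :
    C ≤ φ.ker ∨ C = ⊤ := by
  have hn : (C.map φ).Normal := hC.map φ h.surj
  rcases hn.eq_bot_or_eq_top with h1 | h1
  · left
    rwa [Subgroup.map_eq_bot_iff] at h1
  · right
    apply h.min
    intro a
    have : a ∈ C.map φ := h1 ▸ mem_top a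
    exact this

theorem perfect (h : MinCover φ) (hA : commutator A = ⊤) : commutator H = ⊤ := by
  apply h.min
  intro a
  have h1 : (commutator H).map φ = commutator A := by
    rw [_root_.commutator_def, _root_.commutator_def, map_commutator, ← MonoidHom.range_eq_map,
      MonoidHom.range_eq_top.2 h.surj]
  have : a ∈ (commutator H).map φ := by rw [h1, hA]; exact mem_top a
  exact this

variable [Finite H]

/-- the Sylow subgroups of the kernel are normal -/
theorem sylow_normal (h : MinCover φ) (ℓ : ℕ) [hl : Fact ℓ.Prime] (Q : Sylow ℓ φ.ker) :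
    ((Q : Subgroup φ.ker).map φ.ker.subtype).Normal := by
  have h1 := Sylow.normalizer_sup_eq_top Q
  have h2 := h.eq_top_of_sup h1
  exact normalizer_eq_top_iff.1 h2

end MinCover

/-- No group covering `A` acts on an `F_ℓ`-space of dimension `≤ m` with kernel inside the kernel of the cover. -/
def NoSmallRep (A : Type v) [Group A] (ℓ m : ℕ) : Prop :=
  ∀ (G : Type u) [Group G] [Finite G] (π : G →* A), Function.Surjective π →
    ∀ (E : Type u) [AddCommGroup E] [Module (ZMod ℓ) E] [Finite E] (ρ : Representation (ZMod ℓ) G E),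
      (∀ g, ρ g = 1 → π g = 1) → m < Module.finrank (ZMod ℓ) E

/-- elementary abelian `ℓ`-sections of `H` have order at most `ℓ ^ m` -/
def SecBound (H : Type u) [Group H] (ℓ m : ℕ) : Prop :=
  ∀ (R R₂ : Subgroup H), R₂ ≤ R → IsPGroup ℓ R → (∀ x ∈ R, x ^ ℓ ∈ R₂) →
    (∀ x ∈ R, ∀ y ∈ R, x * y * x⁻¹ * y⁻¹ ∈ R₂) → (∀ x ∈ R, ∀ y ∈ R₂, x * y * x⁻¹ ∈ R₂) → R₂.relIndex R ≤ ℓ ^ m

theorem frattini_ne_top {R : Type*} [Group R] [Finite R] [Nontrivial R] : frattini R ≠ ⊤ := by
  intro h
  have h1 := frattini_nongenerating (G := R) (K := ⊥) (by rw [h, bot_sup_eq])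
  exact bot_ne_top h1

namespace MinCover

variable {H : Type u} {A : Type v} [Group H] [Group A] {φ : H →* A} [Finite H]

/-- the commutator `[Q, H]` of a normal subgroup satisfies `[Q, H] = [Q, H, H]` if `H` is perfect. -/
theorem comm_eq (hH : commutator H = ⊤) (Q : Subgroup H) [Q.Normal] : ⁅⁅Q, (⊤ : Subgroup H)⁆, (⊤ : Subgroup H)⁆ = ⁅Q, (⊤ : Subgroup H)⁆ := by
  apply le_antisymm
  · exact commutator_le_left _ _
  · set N := ⁅⁅Q, (⊤ : Subgroup H)⁆, (⊤ : Subgroup H)⁆ with hN
    have hNn : N.Normal := inferInstance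
    let π := QuotientGroup.mk' N
    have hπ : Function.Surjective π := QuotientGroup.mk'_surjective N
    have ht : (⊤ : Subgroup H).map π = ⊤ := by
      rw [← MonoidHom.range_eq_map, MonoidHom.range_eq_top.2 hπ]
    have hb : N.map π = ⊥ := by
      rw [Subgroup.map_eq_bot_iff, QuotientGroup.ker_mk']
    -- in the quotient
    have h1 : ⁅⁅Q.map π, (⊤ : Subgroup (H ⧸ N))⁆, (⊤ : Subgroup (H ⧸ N))⁆ = ⊥ := by
      rw [← ht, ← map_commutator, ← map_commutator, ← hN, hb]
    have h2 : ⁅⁅(⊤ : Subgroup (H ⧸ N)), Q.map π⁆, (⊤ : Subgroup (H ⧸ N))⁆ = ⊥ := by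
      rw [commutator_comm (⊤ : Subgroup (H ⧸ N)) (Q.map π), h1]
    have h3 : ⁅⁅(⊤ : Subgroup (H ⧸ N)), (⊤ : Subgroup (H ⧸ N))⁆, Q.map π⁆ = ⊥ :=
      commutator_commutator_eq_bot_of_rotate h2 h1
    have h4 : ⁅(⊤ : Subgroup (H ⧸ N)), (⊤ : Subgroup (H ⧸ N))⁆ = ⊤ := by
      rw [← ht, ← map_commutator, ← _root_.commutator_def, hH]
    rw [h4, commutator_comm, ← ht, ← map_commutator, Subgroup.map_eq_bot_iff, QuotientGroup.ker_mk'] at h3
    exact h3

theorem sylow_central [IsSimpleGroup A] (h : MinCover φ) (hA : commutator A = ⊤) {ℓ m : ℕ}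
    [hl : Fact ℓ.Prime] (hNS : NoSmallRep.{u, v} A ℓ m) (hSB : SecBound H ℓ m) (Q : Sylow ℓ φ.ker) :
    (Q : Subgroup φ.ker).map φ.ker.subtype ≤ center H := by
  have hQn := h.sylow_normal ℓ Q
  have hQp : IsPGroup ℓ ((Q : Subgroup φ.ker).map φ.ker.subtype) := Q.isPGroup'.map _
  set Q₀ := (Q : Subgroup φ.ker).map φ.ker.subtype with hQ₀
  have hH := h.perfect hA
  set R := ⁅Q₀, (⊤ : Subgroup H)⁆ with hR
  have hRn : R.Normal := inferInstance
  have hRR : ⁅R, (⊤ : Subgroup H)⁆ = R := comm_eq hH Q₀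
  have hRQ : R ≤ Q₀ := commutator_le_left _ _
  by_cases hbot : R = ⊥
  · intro x hx
    rw [mem_center_iff]
    intro g
    have h1 : ⁅x, g⁆ ∈ R := commutator_mem_commutator hx (mem_top g)
    rw [hbot, mem_bot, commutatorElement_eq_one_iff_mul_comm] at h1
    exact h1.symm
  · exfalso
    have hRp : IsPGroup ℓ R := hQp.to_le hRQ
    have hnt : Nontrivial R := (nontrivial_iff_ne_bot R).2 hbot
    let R₂ : Subgroup H := (frattini R).map R.subtype
    have hR₂n : R₂.Normal := ConjAct.normal_of_characteristic_of_normal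
    have hR₂le : R₂ ≤ R := map_subtype_le _
    have hR₂ne : ¬ R ≤ R₂ := by
      intro hle
      apply frattini_ne_top (R := R)
      rw [eq_top_iff]
      intro x _
      obtain ⟨y, hy, hyx⟩ := hle x.2
      have : y = x := Subtype.ext hyx
      exact this ▸ hy
    have hpow : ∀ x ∈ R, x ^ ℓ ∈ R₂ := by
      intro x hx
      exact ⟨(⟨x, hx⟩ : R) ^ ℓ, Cfsg.Agent.Lib.FrattiniPGroup.pow_mem_frattini hRp _, rfl⟩
    have hcomm : ∀ x ∈ R, ∀ y ∈ R, x * y * x⁻¹ * y⁻¹ ∈ R₂ := by
      intro x hx y hy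
      have := Cfsg.Agent.Lib.FrattiniPGroup.commutator_mem_frattini hRp (⟨x, hx⟩ : R) ⟨y, hy⟩
      exact ⟨_, this, rfl⟩
    have hidx := hSB R R₂ hR₂le hRp hpow hcomm (fun x _ y hy => hR₂n.conj_mem y hy x)
    -- the quotient
    let π := QuotientGroup.mk' R₂
    have hπ : Function.Surjective π := QuotientGroup.mk'_surjective R₂
    obtain ⟨E, i1, i2, i3, e, ρ, hadd, hρ⟩ := Cfsg.Agent.H718.exists_conjRep (X := H ⧸ R₂) ℓ ⊤ (R.map π)
      (by
        rintro _ ⟨x, hx, rfl⟩ _ ⟨y, hy, rfl⟩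
        have h1 : π (x * y * x⁻¹ * y⁻¹) = 1 := (QuotientGroup.eq_one_iff _).2 (hcomm x hx y hy)
        rw [map_mul, map_mul, map_mul, map_inv, map_inv, mul_inv_eq_one, mul_inv_eq_iff_eq_mul] at h1
        exact h1)
      (by
        rintro _ ⟨x, hx, rfl⟩
        rw [← map_pow]
        exact (QuotientGroup.eq_one_iff _).2 (hpow x hx))
      (by
        rintro g - _ ⟨x, hx, rfl⟩
        obtain ⟨g, rfl⟩ := hπ g
        rw [← map_inv, ← map_mul, ← map_mul]
        exact ⟨_, hRn.conj_mem x hx g, rfl⟩)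
    let ρ' : Representation (ZMod ℓ) H E := ρ.comp ((topEquiv (G := H ⧸ R₂)).symm.toMonoidHom.comp π)
    have hρ' : ∀ (g : H) (s : E), ((e (ρ' g s) : R.map π) : H ⧸ R₂) = π g * e s * (π g)⁻¹ := fun g s => hρ _ s
    have hker : ∀ g, ρ' g = 1 ↔ ∀ x ∈ R, ⁅g, x⁆ ∈ R₂ := by
      intro g
      constructor
      · intro hg x hx
        have h1 := hρ' g (e.symm ⟨π x, ⟨x, hx, rfl⟩⟩)
        rw [hg, Module.End.one_apply, Equiv.apply_symm_apply] at h1
        change π x = π g * π x * (π g)⁻¹ at h1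
        have h2 : π ⁅g, x⁆ = 1 := by
          rw [commutatorElement_def, map_mul, map_mul, map_mul, map_inv, map_inv, ← h1, mul_inv_cancel]
        exact (QuotientGroup.eq_one_iff _).1 h2
      · intro hg
        apply LinearMap.ext
        intro s
        apply e.injective
        apply Subtype.ext
        rw [hρ' g s, Module.End.one_apply]
        obtain ⟨x, hx, hxs⟩ := (e s).2
        rw [← hxs]
        have h2 : π ⁅g, x⁆ = 1 := (QuotientGroup.eq_one_iff _).2 (hg x hx)
        rw [commutatorElement_def, map_mul, map_mul, map_mul, map_inv, map_inv, mul_inv_eq_one] at h2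
        exact h2
    -- the kernel
    have hfr : Module.finrank (ZMod ℓ) E ≤ m := by
      have h1 := Module.natCard_eq_pow_finrank (K := ZMod ℓ) (V := E)
      rw [Nat.card_zmod, Nat.card_congr e] at h1
      have h2 : Nat.card (R.map π) = R₂.relIndex R := by
        have hb : R₂.map π = ⊥ := by rw [Subgroup.map_eq_bot_iff, QuotientGroup.ker_mk']
        rw [← relIndex_bot_left, ← hb]
        have := relIndex_map_map π R₂ R
        rw [this, QuotientGroup.ker_mk', sup_idem, sup_eq_left.2 hR₂le]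
      rw [h2] at h1
      rw [h1] at hidx
      exact (Nat.pow_le_pow_iff_right hl.out.one_lt).1 hidx
    let C : Subgroup H := ρ'.toHomUnits.ker
    have hC : ∀ g, g ∈ C ↔ ρ' g = 1 := by
      intro g
      rw [MonoidHom.mem_ker]
      constructor
      · intro hg
        exact congrArg Units.val hg
      · intro hg
        exact Units.ext hg
    rcases h.normal_le_or C with h1 | h1
    · have h2 := hNS H φ h.surj E ρ' (fun g hg => MonoidHom.mem_ker.1 (h1 ((hC g).2 hg)))
      exact absurd hfr (not_le.2 h2)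
    · apply hR₂ne
      rw [← hRR, commutator_comm, commutator_le]
      intro g _ x hx
      exact (hker g).1 ((hC g).1 (h1 ▸ mem_top g)) x hx

end MinCover

end Cfsg.Agent.H186
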