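import Cfsg.Agent.H186.Unitary

/-!
# Regular nilpotent matrices (helper186)

`N` an `n × n` matrix over a field, `N ^ n = 0`, `rank N = n - 1`.

* `exists_cyclic` : there is a vector `v` with `N ^ (n - 1) v ≠ 0`;
* `shift K n` the lower shift matrix, `exists_shift` : `N * P = P * shift`, `P` invertible;
* `reg_conj` : any two such matrices are conjugate;
* `centralizer_scalar` : for `c` commuting with `N` there is a scalar `a` with `c - a` nilpotent; `det c = a ^ n`.
-/

set_option autoImplicit false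
open Cfsg Matrix Module

namespace Cfsg.Agent.H186

section Gen

variable {K : Type*} [Field K]

theorem finrank_map_add_ker {V W : Type*} [AddCommGroup V] [Module K V] [FiniteDimensional K V] [AddCommGroup W]
    [Module K W] (f : V →ₗ[K] W) (X : Submodule K V) :
    finrank K (X.map f) + finrank K (LinearMap.ker f ⊓ X : Submodule K V) = finrank K X := by
  have h1 := LinearMap.finrank_range_add_finrank_ker (f.domRestrict X)
  have h2 : LinearMap.range (f.domRestrict X) = X.map f := by
    ext w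
    simp [LinearMap.mem_range, Submodule.mem_map]
  have h3 : finrank K (LinearMap.ker (f.domRestrict X)) = finrank K (LinearMap.ker f ⊓ X : Submodule K V) := by
    have h4 : (LinearMap.ker (f.domRestrict X)).map X.subtype = LinearMap.ker f ⊓ X := by
      ext w
      rw [Submodule.mem_map, Submodule.mem_inf]
      constructor
      · rintro ⟨y, hy, rfl⟩
        exact ⟨hy, y.2⟩
      · rintro ⟨h5, h6⟩
        exact ⟨⟨w, h6⟩, h5, rfl⟩
    rw [← h4]
    exact (Submodule.finrank_map_subtype_eq X (LinearMap.ker (f.domRestrict X))).symm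
  rw [h2, h3] at h1
  exact h1

/-- Lower bounds for the ranks of the powers of an endomorphism with kernel of dimension one. -/
theorem finrank_range_pow_ge {V : Type*} [AddCommGroup V] [Module K V] [FiniteDimensional K V]
    (f : V →ₗ[K] V) (hf : finrank K (LinearMap.ker f) ≤ 1) (k : ℕ) :
    finrank K V ≤ finrank K (LinearMap.range (f ^ k)) + k := by
  induction k with
  | zero =>
    rw [pow_zero, Module.End.one_eq_id, LinearMap.range_id, finrank_top, add_zero]
  | succ k ih =>
    have h1 : LinearMap.range (f ^ (k + 1)) = (LinearMap.range (f ^ k)).map f := by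
      rw [pow_succ', Module.End.mul_eq_comp, LinearMap.range_comp]
    have h2 := finrank_map_add_ker f (LinearMap.range (f ^ k))
    have h3 : finrank K (LinearMap.ker f ⊓ LinearMap.range (f ^ k) : Submodule K V) ≤ 1 :=
      (Submodule.finrank_mono inf_le_left).trans hf
    rw [h1]
    omega

end Gen

section Mat

variable {K : Type*} [Field K] {n : ℕ}

/-- A cyclic vector of a regular nilpotent matrix. -/
theorem exists_cyclic (hn : 1 ≤ n) (N : Matrix (Fin n) (Fin n) K) (hr : N.rank = n - 1) :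
    ∃ v, (N ^ (n - 1)) *ᵥ v ≠ 0 := by
  by_contra hcon
  push Not at hcon
  have hker : finrank K (LinearMap.ker (Matrix.toLin' N)) ≤ 1 := by
    have h1 := LinearMap.finrank_range_add_finrank_ker (Matrix.toLin' N)
    have h2 : finrank K (LinearMap.range (Matrix.toLin' N)) = n - 1 := hr
    rw [h2, Module.finrank_fin_fun] at h1
    omega
  have h3 := finrank_range_pow_ge (Matrix.toLin' N) hker (n - 1)
  have h4 : (Matrix.toLin' N) ^ (n - 1) = 0 := by
    rw [← Matrix.toLin'_pow]
    apply LinearMap.ext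
    intro v
    rw [Matrix.toLin'_apply]
    exact hcon v
  rw [h4, LinearMap.range_zero, finrank_bot, Module.finrank_fin_fun] at h3
  omega

/-- The lower shift matrix. -/
def shift (K : Type*) [Field K] (n : ℕ) : Matrix (Fin n) (Fin n) K :=
  Matrix.of fun i j => if (i : ℕ) = (j : ℕ) + 1 then 1 else 0

theorem mul_shift (P : Matrix (Fin n) (Fin n) K) (i j : Fin n) :
    (P * shift K n) i j = if h : (j : ℕ) + 1 < n then P i ⟨(j : ℕ) + 1, h⟩ else 0 := by
  rw [Matrix.mul_apply]
  split_ifs with h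
  · rw [Finset.sum_eq_single ⟨(j : ℕ) + 1, h⟩]
    · simp [shift]
    · intro b _ hb
      have : ¬ ((b : ℕ) = (j : ℕ) + 1) := fun h' => hb (Fin.ext h')
      simp [shift, this]
    · intro h'; exact absurd (Finset.mem_univ _) h'
  · apply Finset.sum_eq_zero
    intro b _
    have : ¬ ((b : ℕ) = (j : ℕ) + 1) := fun h' => h (h' ▸ b.2)
    simp [shift, this]

/-- The vectors `v, N v, …, N ^ (n-1) v` are linearly independent. -/
theorem linearIndependent_pow_mulVec (N : Matrix (Fin n) (Fin n) K) (hN : N ^ n = 0) (v : Fin n → K)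
    (hv : (N ^ (n - 1)) *ᵥ v ≠ 0) : LinearIndependent K (fun j : Fin n => (N ^ (j : ℕ)) *ᵥ v) := by
  rw [Fintype.linearIndependent_iff]
  intro g hg
  have key : ∀ k : ℕ, ∀ j : Fin n, (j : ℕ) = k → g j = 0 := by
    intro k
    induction k using Nat.strong_induction_on with
    | _ k ih =>
      intro j hj
      have h1 := congrArg (fun w => (N ^ (n - 1 - k)) *ᵥ w) hg
      simp only [Matrix.mulVec_zero, Matrix.mulVec_sum, Matrix.mulVec_smul, Matrix.mulVec_mulVec, ← pow_add] at h1
      rw [Finset.sum_eq_single j] at h1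
      · have h2 : n - 1 - k + (j : ℕ) = n - 1 := by have := j.2; omega
        rw [h2] at h1
        exact (smul_eq_zero.1 h1).resolve_right hv
      · intro b _ hb
        rcases lt_trichotomy (b : ℕ) k with h | h | h
        · rw [ih b h b rfl, zero_smul]
        · exact absurd (Fin.ext (h.trans hj.symm)) hb
        · have h2 : n ≤ n - 1 - k + (b : ℕ) := by have := j.2; omega
          rw [pow_eq_zero_of_le h2 hN, Matrix.zero_mulVec, smul_zero]
      · intro h'; exact absurd (Finset.mem_univ _) h'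
  exact fun j => key j j rfl

/-- A regular nilpotent matrix is conjugate to the shift matrix. -/
theorem exists_shift (hn : 1 ≤ n) (N : Matrix (Fin n) (Fin n) K) (hN : N ^ n = 0) (hr : N.rank = n - 1) :
    ∃ P : Matrix (Fin n) (Fin n) K, IsUnit P ∧ N * P = P * shift K n := by
  obtain ⟨v, hv⟩ := exists_cyclic hn N hr
  have hli := linearIndependent_pow_mulVec N hN v hv
  let P : Matrix (Fin n) (Fin n) K := Matrix.of fun i j => ((N ^ (j : ℕ)) *ᵥ v) i
  have hcol : P.col = fun j : Fin n => (N ^ (j : ℕ)) *ᵥ v := by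
    funext j i; rfl
  refine ⟨P, ?_, ?_⟩
  · rw [← Matrix.linearIndependent_cols_iff_isUnit, hcol]
    exact hli
  · ext i j
    rw [mul_shift]
    have h1 : (N * P) i j = ((N ^ ((j : ℕ) + 1)) *ᵥ v) i := by
      rw [pow_succ', ← Matrix.mulVec_mulVec]
      rfl
    rw [h1]
    split_ifs with h
    · rfl
    · have : n ≤ (j : ℕ) + 1 := by omega
      rw [pow_eq_zero_of_le this hN, Matrix.zero_mulVec]
      rfl

/-- Any two regular nilpotent matrices are conjugate. -/
theorem reg_conj (hn : 1 ≤ n) (N N' : Matrix (Fin n) (Fin n) K) (hN : N ^ n = 0) (hr : N.rank = n - 1)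
    (hN' : N' ^ n = 0) (hr' : N'.rank = n - 1) :
    ∃ P : GL (Fin n) K, (P : Matrix (Fin n) (Fin n) K) * N = N' * (P : Matrix (Fin n) (Fin n) K) := by
  obtain ⟨P, ⟨P, rfl⟩, hP⟩ := exists_shift hn N hN hr
  obtain ⟨P', ⟨P', rfl⟩, hP'⟩ := exists_shift hn N' hN' hr'
  refine ⟨P' * P⁻¹, ?_⟩
  have h1 : ((P : Matrix (Fin n) (Fin n) K)) * ((P⁻¹ : GL (Fin n) K) : Matrix (Fin n) (Fin n) K) = 1 := Units.mul_inv P
  have h1' : ((P⁻¹ : GL (Fin n) K) : Matrix (Fin n) (Fin n) K) * (P : Matrix (Fin n) (Fin n) K) = 1 := Units.inv_mul P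
  rw [Units.val_mul]
  calc (P' : Matrix (Fin n) (Fin n) K) * ((P⁻¹ : GL (Fin n) K) : Matrix (Fin n) (Fin n) K) * N
      = P' * ((P⁻¹ : GL (Fin n) K) : Matrix (Fin n) (Fin n) K) * (N * P) *
          ((P⁻¹ : GL (Fin n) K) : Matrix (Fin n) (Fin n) K) := by
        simp only [mul_assoc]; rw [h1, mul_one]
    _ = P' * (((P⁻¹ : GL (Fin n) K) : Matrix (Fin n) (Fin n) K) * P) * shift K n *
          ((P⁻¹ : GL (Fin n) K) : Matrix (Fin n) (Fin n) K) := by rw [hP]; simp only [mul_assoc]
    _ = (P' * shift K n) * ((P⁻¹ : GL (Fin n) K) : Matrix (Fin n) (Fin n) K) := by rw [h1', mul_one]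
    _ = N' * (P' * ((P⁻¹ : GL (Fin n) K) : Matrix (Fin n) (Fin n) K)) := by rw [← hP']; simp only [mul_assoc]

/-- The determinant of a scalar plus a nilpotent matrix. -/
theorem det_eq_pow {ι : Type*} [Fintype ι] [DecidableEq ι] {c : Matrix ι ι K} {a : K}
    (h : IsNilpotent (c - algebraMap K (Matrix ι ι K) a)) : c.det = a ^ Fintype.card ι := by
  have h1 : IsNilpotent (-(c - algebraMap K (Matrix ι ι K) a)) := h.neg
  have h2 := Matrix.isNilpotent_charpoly_sub_pow_of_isNilpotent h1
  have h3 : (-(c - algebraMap K (Matrix ι ι K) a)).charpoly = Polynomial.X ^ Fintype.card ι := by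
    rw [← sub_eq_zero]; exact h2.eq_zero
  have h4 := Matrix.eval_charpoly (-(c - algebraMap K (Matrix ι ι K) a)) a
  rw [h3, Polynomial.eval_pow, Polynomial.eval_X] at h4
  rw [h4]
  congr 1
  rw [Matrix.algebraMap_eq_diagonal]
  ext i j
  by_cases hij : i = j
  · subst hij; simp
  · simp [Matrix.diagonal_apply_ne _ hij, Matrix.scalar_apply]

/-- A matrix commuting with a regular nilpotent matrix is a scalar plus a nilpotent one; the scalar is its eigenvalue on
the kernel. -/
theorem centralizer_scalar (hn : 1 ≤ n) (N : Matrix (Fin n) (Fin n) K) (hN : N ^ n = 0) (hr : N.rank = n - 1) :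
    ∃ w : Fin n → K, w ≠ 0 ∧ N *ᵥ w = 0 ∧ ∀ c : Matrix (Fin n) (Fin n) K, c * N = N * c →
      ∃ a : K, c *ᵥ w = a • w ∧ IsNilpotent (c - algebraMap K (Matrix (Fin n) (Fin n) K) a) := by
  have hker : finrank K (LinearMap.ker (Matrix.toLin' N)) = 1 := by
    have h1 := LinearMap.finrank_range_add_finrank_ker (Matrix.toLin' N)
    have h2 : finrank K (LinearMap.range (Matrix.toLin' N)) = n - 1 := hr
    rw [h2, Module.finrank_fin_fun] at h1
    omega
  obtain ⟨w', hw'0, hw'⟩ := finrank_eq_one_iff'.1 hker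
  have hw'' : ∀ z : Fin n → K, N *ᵥ z = 0 → ∃ a : K, z = a • (w' : Fin n → K) := by
    intro z hz
    obtain ⟨a, ha⟩ := hw' ⟨z, by rw [LinearMap.mem_ker, Matrix.toLin'_apply]; exact hz⟩
    exact ⟨a, by rw [← Submodule.coe_smul, ha]⟩
  have hNw : N *ᵥ (w' : Fin n → K) = 0 := by
    have := w'.2
    rwa [LinearMap.mem_ker, Matrix.toLin'_apply] at this
  refine ⟨w', fun h => hw'0 (Subtype.ext h), hNw, ?_⟩
  intro c hc
  have hcw : N *ᵥ (c *ᵥ (w' : Fin n → K)) = 0 := by
    rw [Matrix.mulVec_mulVec, ← hc, ← Matrix.mulVec_mulVec, hNw, Matrix.mulVec_zero]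
  obtain ⟨a, ha⟩ := hw'' _ hcw
  refine ⟨a, ha, ?_⟩
  set M := c - algebraMap K (Matrix (Fin n) (Fin n) K) a with hM
  have hMN : M * N = N * M := by
    rw [hM, sub_mul, mul_sub, hc, Algebra.commutes]
  have hMw : M *ᵥ (w' : Fin n → K) = 0 := by
    rw [hM, Matrix.sub_mulVec, ha, Algebra.algebraMap_eq_smul_one, Matrix.smul_mulVec, Matrix.one_mulVec, sub_self]
  have hMNk : ∀ k, M * N ^ k = N ^ k * M := fun k => (Commute.pow_right (show Commute M N from hMN) k)
  -- `M` lowers the filtration by the kernels of the powers of `N`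
  have hlow : ∀ (k : ℕ) (z : Fin n → K), (N ^ (k + 1)) *ᵥ z = 0 → (N ^ k) *ᵥ (M *ᵥ z) = 0 := by
    intro k z hz
    rw [pow_succ', ← Matrix.mulVec_mulVec] at hz
    obtain ⟨b, hb⟩ := hw'' _ hz
    rw [Matrix.mulVec_mulVec, ← hMNk, ← Matrix.mulVec_mulVec, hb, Matrix.mulVec_smul, hMw, smul_zero]
  have hall : ∀ (k j : ℕ), k + j = n → ∀ z : Fin n → K, (N ^ k) *ᵥ ((M ^ j) *ᵥ z) = 0 := by
    intro k j
    induction j generalizing k with
    | zero =>
      intro hk z
      have : k = n := by omega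
      rw [this, hN, Matrix.zero_mulVec]
    | succ j ih =>
      intro hk z
      rw [pow_succ', ← Matrix.mulVec_mulVec]
      exact hlow k _ (ih (k + 1) (by omega) z)
  refine ⟨n, ?_⟩
  apply Matrix.ext_of_mulVec_single
  intro j
  have := hall 0 n (by omega) (Pi.single j 1)
  rw [pow_zero, Matrix.one_mulVec] at this
  rw [this, Matrix.zero_mulVec]

end Mat

end Cfsg.Agent.H186
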