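import Cfsg.Agent.H186.RegUnip

/-!
# The regular unipotent classes of `SU_n(q)` (helper186, S2643)
-/

set_option autoImplicit false
open Cfsg Matrix Module

namespace Cfsg.Agent.H186

open Cfsg.Agent.ClassicalGeometry.GUBasic

/-- Two surjections with the same fibres have targets of the same cardinality. -/
theorem card_eq_of_fibers {A B C : Type*} (f : A → B) (g : A → C) (hf : Function.Surjective f)
    (hg : Function.Surjective g) (h : ∀ a b, f a = f b ↔ g a = g b) : Nat.card B = Nat.card C := by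
  refine Nat.card_congr (Equiv.ofBijective (fun b => g (Function.surjInv hf b)) ⟨?_, ?_⟩)
  · intro b b' hb
    have := (h _ _).2 hb
    rwa [Function.surjInv_eq hf, Function.surjInv_eq hf] at this
  · intro c
    obtain ⟨a, rfl⟩ := hg c
    refine ⟨f a, ?_⟩
    exact (h _ _).1 (Function.surjInv_eq hf (f a))

section Shift

variable {K : Type*} [Field K] {n : ℕ}

theorem shift_mulVec (v : Fin n → K) (i : Fin n) :
    (shift K n *ᵥ v) i = if h : 1 ≤ (i : ℕ) then v ⟨(i : ℕ) - 1, by omega⟩ else 0 := by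
  rw [Matrix.mulVec, dotProduct]
  split_ifs with h
  · rw [Finset.sum_eq_single ⟨(i : ℕ) - 1, by omega⟩]
    · have : (i : ℕ) = (i : ℕ) - 1 + 1 := by omega
      simp [shift, ← this]
    · intro b _ hb
      have : ¬ ((i : ℕ) = (b : ℕ) + 1) := fun h' => hb (Fin.ext (by simp; omega))
      simp [shift, this]
    · intro h'; exact absurd (Finset.mem_univ _) h'
  · apply Finset.sum_eq_zero
    intro b _
    have : ¬ ((i : ℕ) = (b : ℕ) + 1) := by omega
    simp [shift, this]

theorem shift_pow_mulVec (k : ℕ) (v : Fin n → K) (i : Fin n) (hi : (i : ℕ) < k) :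
    ((shift K n) ^ k *ᵥ v) i = 0 := by
  induction k generalizing i with
  | zero => omega
  | succ k ih =>
    rw [pow_succ', ← Matrix.mulVec_mulVec, shift_mulVec]
    split_ifs with h
    · exact ih _ (by simp; omega)
    · rfl

theorem shift_pow_eq_zero : (shift K n) ^ n = 0 := by
  apply Matrix.ext_of_mulVec_single
  intro j
  funext i
  rw [shift_pow_mulVec n _ i i.2, Matrix.zero_mulVec]
  rfl

theorem shift_rank (hn : 1 ≤ n) : (shift K n).rank = n - 1 := by
  have hker : finrank K (LinearMap.ker (Matrix.toLin' (shift K n))) = 1 := by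
    let l : Fin n := ⟨n - 1, by omega⟩
    have hl : shift K n *ᵥ Pi.single l 1 = 0 := by
      funext i
      rw [shift_mulVec]
      split_ifs with h
      · have : (⟨(i : ℕ) - 1, by omega⟩ : Fin n) ≠ l := by
          intro h'
          have := congrArg Fin.val h'
          simp only [l] at this
          omega
        rw [Pi.single_eq_of_ne this]; rfl
      · rfl
    rw [finrank_eq_one_iff']
    refine ⟨⟨Pi.single l 1, by rw [LinearMap.mem_ker, Matrix.toLin'_apply]; exact hl⟩, ?_, ?_⟩
    · intro h0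
      have h1 := congrFun (congrArg Subtype.val h0) l
      simp at h1
    · rintro ⟨v, hv⟩
      rw [LinearMap.mem_ker, Matrix.toLin'_apply] at hv
      refine ⟨v l, Subtype.ext ?_⟩
      funext i
      change v l * (Pi.single l (1 : K) : Fin n → K) i = v i
      by_cases hi : i = l
      · subst hi; simp
      · rw [Pi.single_eq_of_ne hi, mul_zero]
        have hi' : (i : ℕ) + 1 < n := by
          have := i.2
          by_contra hcon
          exact hi (Fin.ext (by simp only [l]; omega))
        have h1 := congrFun hv ⟨(i : ℕ) + 1, hi'⟩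
        rw [shift_mulVec, dif_pos (by simp)] at h1
        simp only [Nat.add_sub_cancel] at h1
        exact h1.symm
  have h1 := LinearMap.finrank_range_add_finrank_ker (Matrix.toLin' (shift K n))
  rw [hker, Module.finrank_fin_fun] at h1
  have h2 : (shift K n).rank = finrank K (LinearMap.range (Matrix.toLin' (shift K n))) := rfl
  omega

end Shift

section Reg

variable {K : Type*} [Field K] {n : ℕ}

/-- `u` is a regular unipotent matrix. -/
def IsReg (u : Matrix (Fin n) (Fin n) K) : Prop := (u - 1) ^ n = 0 ∧ (u - 1).rank = n - 1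

theorem IsReg.conj {u : Matrix (Fin n) (Fin n) K} (hu : IsReg u) (x : GL (Fin n) K) :
    IsReg ((x : Matrix (Fin n) (Fin n) K) * u * ((x⁻¹ : GL (Fin n) K) : Matrix (Fin n) (Fin n) K)) := by
  have h1 : ((x : Matrix (Fin n) (Fin n) K)) * ((x⁻¹ : GL (Fin n) K) : Matrix (Fin n) (Fin n) K) = 1 := Units.mul_inv x
  have h1' : ((x⁻¹ : GL (Fin n) K) : Matrix (Fin n) (Fin n) K) * (x : Matrix (Fin n) (Fin n) K) = 1 := Units.inv_mul x
  have h2 : (x : Matrix (Fin n) (Fin n) K) * u * ((x⁻¹ : GL (Fin n) K) : Matrix (Fin n) (Fin n) K) - 1 =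
      (x : Matrix (Fin n) (Fin n) K) * (u - 1) * ((x⁻¹ : GL (Fin n) K) : Matrix (Fin n) (Fin n) K) := by
    rw [mul_sub, sub_mul, mul_one, h1]
  constructor
  · rw [h2]
    have h3 : ∀ k : ℕ, ((x : Matrix (Fin n) (Fin n) K) * (u - 1) *
        ((x⁻¹ : GL (Fin n) K) : Matrix (Fin n) (Fin n) K)) ^ k =
        (x : Matrix (Fin n) (Fin n) K) * (u - 1) ^ k * ((x⁻¹ : GL (Fin n) K) : Matrix (Fin n) (Fin n) K) := by
      intro k
      induction k with
      | zero => rw [pow_zero, pow_zero, mul_one, h1]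
      | succ k ih =>
        rw [pow_succ, ih, pow_succ]
        calc _ = (x : Matrix (Fin n) (Fin n) K) * (u - 1) ^ k *
              (((x⁻¹ : GL (Fin n) K) : Matrix (Fin n) (Fin n) K) * (x : Matrix (Fin n) (Fin n) K)) * (u - 1) *
              ((x⁻¹ : GL (Fin n) K) : Matrix (Fin n) (Fin n) K) := by simp only [mul_assoc]
          _ = _ := by rw [h1', mul_one]; simp only [mul_assoc]
    rw [h3, hu.1, mul_zero, zero_mul]
  · rw [h2]
    have hd : IsUnit (x : Matrix (Fin n) (Fin n) K).det := (Matrix.isUnit_iff_isUnit_det _).1 x.isUnit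
    have hd' : IsUnit ((x⁻¹ : GL (Fin n) K) : Matrix (Fin n) (Fin n) K).det :=
      (Matrix.isUnit_iff_isUnit_det _).1 (x⁻¹).isUnit
    rw [Matrix.rank_mul_eq_left_of_isUnit_det _ _ hd', Matrix.rank_mul_eq_right_of_isUnit_det _ _ hd, hu.2]

theorem IsReg.det {u : Matrix (Fin n) (Fin n) K} (hu : IsReg u) : u.det = 1 := by
  have : IsNilpotent (u - algebraMap K (Matrix (Fin n) (Fin n) K) 1) := ⟨n, by rw [map_one]; exact hu.1⟩
  rw [det_eq_pow this, one_pow]

variable [Fintype K] {q : ℕ}

/-- Two regular unipotent isometries are conjugate by an isometry. -/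
theorem IsReg.exists_conj (hK : Fintype.card K = q ^ 2) (hn : 1 ≤ n) {u u' : Matrix (Fin n) (Fin n) K}
    (hu : IsReg u) (hu' : IsReg u') (h : st q u * u = 1) (h' : st q u' * u' = 1) :
    ∃ y : Matrix (Fin n) (Fin n) K, st q y * y = 1 ∧ y * u = u' * y := by
  obtain ⟨P, hP⟩ := reg_conj hn (u - 1) (u' - 1) hu.1 hu.2 hu'.1 hu'.2
  refine Cfsg.Agent.H186.exists_conj hK u u' P h h' P.isUnit ?_
  have h1 := hP
  rw [mul_sub, sub_mul, mul_one, one_mul] at h1
  exact sub_left_injective h1

/-- There is a regular unipotent isometry. -/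
theorem exists_reg (hK : Fintype.card K = q ^ 2) (hn : 1 ≤ n) :
    ∃ u : Matrix (Fin n) (Fin n) K, IsReg u ∧ st q u * u = 1 := by
  have hq := two_le hK
  let A : Matrix (Fin n) (Fin n) K := 1 + shift K n
  have hA : IsReg A := by
    refine ⟨?_, ?_⟩
    · change (1 + shift K n - 1) ^ n = 0
      rw [add_sub_cancel_left, shift_pow_eq_zero]
    · change (1 + shift K n - 1).rank = n - 1
      rw [add_sub_cancel_left, shift_rank hn]
  have hAu : IsUnit A := by
    rw [Matrix.isUnit_iff_isUnit_det, hA.det]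
    exact isUnit_one
  -- the inverse of the conjugate transpose
  have hsA : IsUnit (st q A) := by
    obtain ⟨u, hu⟩ := hAu
    rw [← hu]
    refine ⟨⟨st q (u : Matrix (Fin n) (Fin n) K),
      st q ((u⁻¹ : (Matrix (Fin n) (Fin n) K)ˣ) : Matrix (Fin n) (Fin n) K), ?_, ?_⟩, rfl⟩
    · rw [← st_mul hK, Units.inv_mul, st_one hK]
    · rw [← st_mul hK, Units.mul_inv, st_one hK]
  obtain ⟨B, hB⟩ := hsA
  obtain ⟨A', hA'⟩ := hAu
  have hstN : st q (shift K n) = (shift K n)ᵀ := by
    ext i j
    rw [st_apply, Matrix.transpose_apply, shift, Matrix.of_apply]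
    split_ifs
    · exact one_pow q
    · exact zero_pow (by omega)
  have hBinv : IsReg ((B⁻¹ : (Matrix (Fin n) (Fin n) K)ˣ) : Matrix (Fin n) (Fin n) K) := by
    set C : Matrix (Fin n) (Fin n) K := ((B⁻¹ : (Matrix (Fin n) (Fin n) K)ˣ) : Matrix (Fin n) (Fin n) K) with hC
    have h1 : (B : Matrix (Fin n) (Fin n) K) = 1 + (shift K n)ᵀ := by
      rw [hB]
      change st q (1 + shift K n) = _
      rw [st_add hK, st_one hK, hstN]
    have h2 : (B : Matrix (Fin n) (Fin n) K) * C = 1 := Units.mul_inv B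
    have h2' : C * (B : Matrix (Fin n) (Fin n) K) = 1 := Units.inv_mul B
    have h3 : C - 1 = - ((shift K n)ᵀ * C) := by
      have : C - 1 = C - (B : Matrix (Fin n) (Fin n) K) * C := by rw [h2]
      rw [this, h1, add_mul, one_mul, sub_add_cancel_left]
    have h4 : Commute (shift K n)ᵀ C := by
      have h5 : Commute (shift K n)ᵀ (B : Matrix (Fin n) (Fin n) K) := by
        rw [h1]; exact (Commute.one_right _).add_right (Commute.refl _)
      change (shift K n)ᵀ * C = C * (shift K n)ᵀ
      calc (shift K n)ᵀ * C = C * ((B : Matrix (Fin n) (Fin n) K) * (shift K n)ᵀ) * C := by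
            rw [← mul_assoc, h2', one_mul]
        _ = C * (shift K n)ᵀ * ((B : Matrix (Fin n) (Fin n) K) * C) := by
            rw [← h5.eq]; simp only [mul_assoc]
        _ = C * (shift K n)ᵀ := by rw [h2, mul_one]
    constructor
    · rw [h3, neg_pow, h4.mul_pow, ← Matrix.transpose_pow, shift_pow_eq_zero, Matrix.transpose_zero, zero_mul,
        mul_zero]
    · rw [h3]
      have h6 : (-((shift K n)ᵀ * C)).rank = ((shift K n)ᵀ * C).rank := by
        have : -((shift K n)ᵀ * C) = ((shift K n)ᵀ * C) * (-1 : Matrix (Fin n) (Fin n) K) := by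
          rw [mul_neg, mul_one]
        rw [this]
        apply Matrix.rank_mul_eq_left_of_isUnit_det
        rw [Matrix.det_neg, Matrix.det_one, mul_one]
        exact (isUnit_one.neg).pow _
      rw [h6, Matrix.rank_mul_eq_left_of_isUnit_det, Matrix.rank_transpose, shift_rank hn]
      exact (Matrix.isUnit_iff_isUnit_det _).1 (B⁻¹).isUnit
  obtain ⟨P, hP⟩ := reg_conj hn _ _ hA.1 hA.2 hBinv.1 hBinv.2
  have hP' : (P : Matrix (Fin n) (Fin n) K) * A = ((B⁻¹ : (Matrix (Fin n) (Fin n) K)ˣ) : Matrix (Fin n) (Fin n) K) * P := by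
    have h1 := hP
    rw [mul_sub, sub_mul, mul_one, one_mul] at h1
    exact sub_left_injective h1
  have h7 : st q A * (P : Matrix (Fin n) (Fin n) K) * A = P := by
    rw [mul_assoc, hP', ← hB, ← mul_assoc, Units.mul_inv, one_mul]
  obtain ⟨y, hy, C, hC, hyC⟩ := exists_isometry hK A P P.isUnit ⟨A', hA'⟩ h7
  refine ⟨C, ?_, hC⟩
  obtain ⟨y, rfl⟩ := hy
  have : C = (y : Matrix (Fin n) (Fin n) K) * A * ((y⁻¹ : GL (Fin n) K) : Matrix (Fin n) (Fin n) K) := by
    rw [hyC, mul_assoc]
    have : (y : Matrix (Fin n) (Fin n) K) * ((y⁻¹ : GL (Fin n) K) : Matrix (Fin n) (Fin n) K) = 1 := Units.mul_inv y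
    rw [this, mul_one]
  rw [this]
  exact hA.conj y

/-- The determinant of an isometry commuting with a regular unipotent one is the `n`-th power of an element of norm
one. -/
theorem IsReg.det_centralizer (hK : Fintype.card K = q ^ 2) (hn : 1 ≤ n) {u c : Matrix (Fin n) (Fin n) K}
    (hu : IsReg u) (h : st q u * u = 1) (hc : st q c * c = 1) (hcu : c * u = u * c) :
    ∃ a : K, a ^ (q + 1) = 1 ∧ c.det = a ^ n := by
  obtain ⟨w, hw0, hNw, hw⟩ := centralizer_scalar hn (u - 1) hu.1 hu.2
  have huw : u *ᵥ w = w := by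
    rw [Matrix.sub_mulVec, Matrix.one_mulVec, sub_eq_zero] at hNw
    exact hNw
  obtain ⟨a, ha, hnil⟩ := hw c (by rw [mul_sub, sub_mul, hcu, mul_one, one_mul])
  -- `st c` commutes with `u`
  have hus : u * st q u = 1 := mul_eq_one_comm.1 h
  have hcs : st q c * st q u = st q u * st q c := by rw [← st_mul hK, ← hcu, st_mul hK]
  have hcomm : st q c * u = u * st q c := by
    calc st q c * u = (u * st q u) * (st q c * u) := by rw [hus, one_mul]
      _ = u * (st q u * st q c) * u := by simp only [mul_assoc]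
      _ = u * st q c * (st q u * u) := by rw [← hcs]; simp only [mul_assoc]
      _ = u * st q c := by rw [h, mul_one]
  obtain ⟨b, hb, hnilb⟩ := hw (st q c) (by rw [mul_sub, sub_mul, hcomm, mul_one, one_mul])
  have hab : b * a = 1 := by
    have h1 : (st q c * c) *ᵥ w = w := by rw [hc, Matrix.one_mulVec]
    rw [← Matrix.mulVec_mulVec, ha, Matrix.mulVec_smul, hb, smul_smul] at h1
    have h2 : (a * b - 1) • w = 0 := by rw [sub_smul, h1, one_smul, sub_self]
    have h3 := (smul_eq_zero.1 h2).resolve_right hw0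
    linear_combination h3
  -- `st c - a^q` is nilpotent
  have hnil2 : IsNilpotent (st q c - algebraMap K (Matrix (Fin n) (Fin n) K) (a ^ q)) := by
    obtain ⟨k, hk⟩ := hnil
    have hsub : st q (c - algebraMap K (Matrix (Fin n) (Fin n) K) a) =
        st q c - algebraMap K (Matrix (Fin n) (Fin n) K) (a ^ q) := by
      have h1 : st q (c - algebraMap K (Matrix (Fin n) (Fin n) K) a) + st q (algebraMap K (Matrix (Fin n) (Fin n) K) a)
          = st q c := by rw [← st_add hK, sub_add_cancel]
      rw [← st_algebraMap hK, ← h1, add_sub_cancel_right]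
    have hpow : ∀ (k : ℕ) (M : Matrix (Fin n) (Fin n) K), (st q M) ^ k = st q (M ^ k) := by
      intro k M
      induction k with
      | zero => rw [pow_zero, pow_zero, st_one hK]
      | succ k ih => rw [pow_succ, ih, ← st_mul hK, pow_succ']
    have hz : st q (0 : Matrix (Fin n) (Fin n) K) = 0 := by
      have hq := two_le hK
      ext i j
      rw [st_apply, Matrix.zero_apply, Matrix.zero_apply, zero_pow (by omega)]
    refine ⟨k, ?_⟩
    rw [← hsub, hpow, hk, hz]
  -- the difference of the two scalars is nilpotent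
  have hbq : b = a ^ q := by
    obtain ⟨k, hk⟩ := hnil2
    have h1 : (st q c - algebraMap K (Matrix (Fin n) (Fin n) K) (a ^ q)) *ᵥ w = (b - a ^ q) • w := by
      rw [Matrix.sub_mulVec, hb, Algebra.algebraMap_eq_smul_one, Matrix.smul_mulVec, Matrix.one_mulVec, sub_smul]
    have h2 : ∀ k : ℕ, ((st q c - algebraMap K (Matrix (Fin n) (Fin n) K) (a ^ q)) ^ k) *ᵥ w = (b - a ^ q) ^ k • w := by
      intro k
      induction k with
      | zero => rw [pow_zero, pow_zero, Matrix.one_mulVec, one_smul]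
      | succ k ih => rw [pow_succ', ← Matrix.mulVec_mulVec, ih, Matrix.mulVec_smul, h1, smul_smul, pow_succ]
    have h3 := h2 k
    rw [hk, Matrix.zero_mulVec] at h3
    have h4 := (smul_eq_zero.1 h3.symm).resolve_right hw0
    exact sub_eq_zero.1 (IsNilpotent.eq_zero ⟨k, h4⟩)
  refine ⟨a, ?_, ?_⟩
  · rw [pow_succ, ← hbq, hab]
  · rw [det_eq_pow hnil, Fintype.card_fin]

/-- Statement S2643. -/
theorem card_su_reg (hK : Fintype.card K = q ^ 2) (hn : 2 ≤ n) :
    Nat.card {C : ConjClasses ↥(Cfsg.SU n K q) // ∃ u : ↥(Cfsg.SU n K q), ConjClasses.mk u = C ∧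
      (((u : GL (Fin n) K) : Matrix (Fin n) (Fin n) K) - 1) ^ n = 0 ∧
      (((u : GL (Fin n) K) : Matrix (Fin n) (Fin n) K) - 1).rank = n - 1} = Nat.gcd n (q + 1) := by
  classical
  -- elements of `SU` from matrices
  have mkSU : ∀ M : Matrix (Fin n) (Fin n) K, st q M * M = 1 → M.det = 1 →
      ∃ s : ↥(Cfsg.SU n K q), ((s : GL (Fin n) K) : Matrix (Fin n) (Fin n) K) = M := by
    intro M hM hdet
    let s : Matrix.SpecialLinearGroup (Fin n) K := ⟨M, hdet⟩
    have hs : s ∈ Cfsg.SU n K q := by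
      intro u v
      have h1 : (⟨M, st q M, mul_eq_one_comm.1 hM, hM⟩ : GL (Fin n) K) ∈ Cfsg.GU n K q :=
        (mem_GU_iff_st hK _).2 hM
      exact h1 u v
    exact ⟨⟨s, hs⟩, rfl⟩
  have ofSU : ∀ s : ↥(Cfsg.SU n K q), st q ((s : GL (Fin n) K) : Matrix (Fin n) (Fin n) K) *
      ((s : GL (Fin n) K) : Matrix (Fin n) (Fin n) K) = 1 := by
    intro s
    have h1 : (s : GL (Fin n) K) ∈ Cfsg.GU n K q := s.2
    exact (mem_GU_iff_st hK _).1 h1
  have detSU : ∀ s : ↥(Cfsg.SU n K q), ((s : GL (Fin n) K) : Matrix (Fin n) (Fin n) K).det = 1 := fun s => s.1.2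
  have extSU : ∀ s t : ↥(Cfsg.SU n K q), ((s : GL (Fin n) K) : Matrix (Fin n) (Fin n) K) =
      ((t : GL (Fin n) K) : Matrix (Fin n) (Fin n) K) → s = t := by
    intro s t h
    exact Subtype.ext (Subtype.ext h)
  have mulSU : ∀ s t : ↥(Cfsg.SU n K q), (((s * t : ↥(Cfsg.SU n K q)) : GL (Fin n) K) : Matrix (Fin n) (Fin n) K) =
      ((s : GL (Fin n) K) : Matrix (Fin n) (Fin n) K) * ((t : GL (Fin n) K) : Matrix (Fin n) (Fin n) K) :=
    fun s t => rfl
  obtain ⟨u₀, hu₀, hst₀⟩ := exists_reg (n := n) hK (by omega)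
  -- conjugates of `u₀` by `GU`
  have hGU : ∀ g : ↥(Cfsg.GU n K q), st q ((g : GL (Fin n) K) : Matrix (Fin n) (Fin n) K) *
      ((g : GL (Fin n) K) : Matrix (Fin n) (Fin n) K) = 1 := fun g => (mem_GU_iff_st hK _).1 g.2
  have hGU' : ∀ g : ↥(Cfsg.GU n K q), ((g : GL (Fin n) K) : Matrix (Fin n) (Fin n) K) *
      st q ((g : GL (Fin n) K) : Matrix (Fin n) (Fin n) K) = 1 := fun g => mul_eq_one_comm.1 (hGU g)
  have hcj : ∀ g : ↥(Cfsg.GU n K q), ∃ s : ↥(Cfsg.SU n K q),
      ((s : GL (Fin n) K) : Matrix (Fin n) (Fin n) K) = ((g : GL (Fin n) K) : Matrix (Fin n) (Fin n) K) * u₀ *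
        st q ((g : GL (Fin n) K) : Matrix (Fin n) (Fin n) K) := by
    intro g
    apply mkSU
    · rw [st_mul hK, st_mul hK, st_st hK]
      set G := ((g : GL (Fin n) K) : Matrix (Fin n) (Fin n) K) with hG
      calc G * (st q u₀ * st q G) * (G * u₀ * st q G) = G * (st q u₀ * (st q G * G) * u₀) * st q G := by
            simp only [mul_assoc]
        _ = 1 := by rw [hGU g, mul_one, hst₀, mul_one, hGU' g]
    · rw [Matrix.det_mul, Matrix.det_mul, hu₀.det, mul_one, ← Matrix.det_mul, hGU' g, Matrix.det_one]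
  choose cj hcj using hcj
  have hregcj : ∀ g, IsReg ((cj g : GL (Fin n) K) : Matrix (Fin n) (Fin n) K) := by
    intro g
    have h1 : ((((g : GL (Fin n) K))⁻¹ : GL (Fin n) K) : Matrix (Fin n) (Fin n) K) =
        st q ((g : GL (Fin n) K) : Matrix (Fin n) (Fin n) K) := by
      rw [← mul_one (((((g : GL (Fin n) K))⁻¹ : GL (Fin n) K) : Matrix (Fin n) (Fin n) K)), ← hGU' g, ← mul_assoc,
        Units.inv_mul, one_mul]
    rw [hcj, ← h1]
    exact hu₀.conj _
  let f : ↥(Cfsg.GU n K q) → {C : ConjClasses ↥(Cfsg.SU n K q) // ∃ u : ↥(Cfsg.SU n K q), ConjClasses.mk u = C ∧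
      (((u : GL (Fin n) K) : Matrix (Fin n) (Fin n) K) - 1) ^ n = 0 ∧
      (((u : GL (Fin n) K) : Matrix (Fin n) (Fin n) K) - 1).rank = n - 1} :=
    fun g => ⟨ConjClasses.mk (cj g), cj g, rfl, hregcj g⟩
  let H : Subgroup (rootsOfUnity (q + 1) K) := (powMonoidHom n : rootsOfUnity (q + 1) K →* rootsOfUnity (q + 1) K).range
  let d : ↥(Cfsg.GU n K q) → rootsOfUnity (q + 1) K ⧸ H := fun g => QuotientGroup.mk (detHom n hK g)
  have hf : Function.Surjective f := by
    rintro ⟨C, u, rfl, hu⟩
    obtain ⟨y, hy, hyc⟩ := hu₀.exists_conj hK (by omega) (show IsReg _ from hu) hst₀ (ofSU u)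
    let Y : GL (Fin n) K := ⟨y, st q y, mul_eq_one_comm.1 hy, hy⟩
    refine ⟨⟨Y, (mem_GU_iff_st hK Y).2 hy⟩, ?_⟩
    apply Subtype.ext
    change ConjClasses.mk _ = ConjClasses.mk _
    congr 1
    apply extSU
    rw [hcj]
    change y * u₀ * st q y = _
    rw [hyc, mul_assoc, mul_eq_one_comm.1 hy, mul_one]
  have hd : Function.Surjective d :=
    (QuotientGroup.mk_surjective).comp (detHom_surjective (by omega) hK)
  have hfib : ∀ a b, f a = f b ↔ d a = d b := by
    intro a b
    set A := ((a : GL (Fin n) K) : Matrix (Fin n) (Fin n) K) with hA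
    set B := ((b : GL (Fin n) K) : Matrix (Fin n) (Fin n) K) with hB
    have hd' : d a = d b ↔ ∃ z : rootsOfUnity (q + 1) K, z ^ n = (detHom n hK a)⁻¹ * detHom n hK b := by
      change (QuotientGroup.mk _ : rootsOfUnity (q + 1) K ⧸ H) = QuotientGroup.mk _ ↔ _
      rw [QuotientGroup.eq, MonoidHom.mem_range]
      rfl
    rw [hd']
    constructor
    · intro h
      have h1 : ConjClasses.mk (cj a) = ConjClasses.mk (cj b) := congrArg Subtype.val h
      rw [ConjClasses.mk_eq_mk_iff_isConj, _root_.isConj_iff] at h1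
      obtain ⟨t, ht⟩ := h1
      set T := ((t : GL (Fin n) K) : Matrix (Fin n) (Fin n) K) with hT
      have ht' : T * (A * u₀ * st q A) = (B * u₀ * st q B) * T := by
        have h2 : t * cj a = cj b * t := by rw [← ht]; group
        have h3 := congrArg (fun s : ↥(Cfsg.SU n K q) => ((s : GL (Fin n) K) : Matrix (Fin n) (Fin n) K)) h2
        simp only [mulSU, hcj] at h3
        exact h3
      have hTT := ofSU t
      have hTT' : T * st q T = 1 := mul_eq_one_comm.1 hTT
      -- `c = B⁻¹ T A`
      set c := st q B * T * A with hc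
      have hcu : c * u₀ = u₀ * c := by
        calc c * u₀ = st q B * (T * (A * u₀ * st q A)) * A := by
              rw [hc]
              calc st q B * T * A * u₀ = st q B * T * A * u₀ * (st q A * A) := by rw [hGU a, mul_one]
                _ = _ := by simp only [mul_assoc]
          _ = (st q B * B) * u₀ * (st q B * T * A) := by rw [ht']; simp only [mul_assoc]
          _ = u₀ * c := by rw [hGU b, one_mul]
      have hcst : st q c * c = 1 := by
        rw [hc, st_mul hK, st_mul hK, st_st hK]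
        calc st q A * (st q T * B) * (st q B * T * A) = st q A * (st q T * (B * st q B) * T) * A := by
              simp only [mul_assoc]
          _ = 1 := by rw [hGU' b, mul_one, hTT, mul_one, hGU a]
      obtain ⟨e, he, hedet⟩ := hu₀.det_centralizer hK (by omega) hst₀ hcst hcu
      have hAdet : A.det ≠ 0 := ((Matrix.isUnit_iff_isUnit_det _).1 (a : GL (Fin n) K).isUnit).ne_zero
      have hBdet : B.det ≠ 0 := ((Matrix.isUnit_iff_isUnit_det _).1 (b : GL (Fin n) K).isUnit).ne_zero
      have hdet : B.det * e ^ n = A.det := by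
        rw [← hedet, hc, Matrix.det_mul, Matrix.det_mul, detSU t, mul_one, ← mul_assoc, ← Matrix.det_mul, hGU' b,
          Matrix.det_one, one_mul]
      have he0 : e ≠ 0 := by
        rintro rfl
        rw [zero_pow (Nat.succ_ne_zero q)] at he
        exact zero_ne_one he
      let E : Kˣ := Units.mk0 e he0
      have hE : E ∈ rootsOfUnity (q + 1) K := by
        rw [mem_rootsOfUnity]
        apply Units.ext
        rw [Units.val_pow_eq_pow_val, Units.val_one]
        exact he
      refine ⟨(⟨E, hE⟩ : rootsOfUnity (q + 1) K)⁻¹, ?_⟩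
      rw [inv_pow, eq_inv_mul_iff_mul_eq, mul_inv_eq_iff_eq_mul]
      apply Subtype.ext
      apply Units.ext
      change A.det = B.det * e ^ n
      exact hdet.symm
    · rintro ⟨z, hz⟩
      set e : K := (((z : Kˣ)⁻¹ : Kˣ) : K) with he
      have hAdet : A.det ≠ 0 := ((Matrix.isUnit_iff_isUnit_det _).1 (a : GL (Fin n) K).isUnit).ne_zero
      have hdet : A.det * ((z : Kˣ) : K) ^ n = B.det := by
        have h1 : detHom n hK a * z ^ n = detHom n hK b := by rw [hz, mul_inv_cancel_left]
        have h2 := congrArg (fun x : rootsOfUnity (q + 1) K => ((x : Kˣ) : K)) h1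
        exact h2
      have hz1 : ((z : Kˣ) : K) * ((z : Kˣ) : K) ^ q = 1 := by
        rw [← pow_succ', ← Units.val_pow_eq_pow_val, (mem_rootsOfUnity _ _).1 z.2, Units.val_one]
      -- `t = B z⁻¹ A⁻¹`
      have hez : e * ((z : Kˣ) : K) = 1 := by rw [he, ← Units.val_mul, inv_mul_cancel, Units.val_one]
      have hee : e ^ q * e = 1 := by
        have h1 : (e ^ q * e) * (((z : Kˣ) : K) * ((z : Kˣ) : K) ^ q) = (e * ((z : Kˣ) : K)) ^ q * (e * ((z : Kˣ) : K)) := by
          rw [mul_pow]; ring
        rw [hz1, mul_one, hez, one_pow, one_mul] at h1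
        exact h1
      obtain ⟨t, ht⟩ := mkSU (e • (B * st q A)) (by
        rw [st_smul, st_mul hK, st_st hK, smul_mul_smul_comm, hee, one_smul]
        calc A * st q B * (B * st q A) = A * (st q B * B) * st q A := by simp only [mul_assoc]
          _ = 1 := by rw [hGU b, mul_one, hGU' a]) (by
        rw [Matrix.det_smul, Matrix.det_mul, Fintype.card_fin, ← hdet]
        have h1 : A.det * (st q A).det = 1 := by rw [← Matrix.det_mul, hGU' a, Matrix.det_one]
        calc e ^ n * (A.det * ((z : Kˣ) : K) ^ n * (st q A).det) = (e * ((z : Kˣ) : K)) ^ n * (A.det * (st q A).det) := by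
              rw [mul_pow]; ring
          _ = 1 := by rw [hez, one_pow, h1, mul_one])
      apply Subtype.ext
      change ConjClasses.mk (cj a) = ConjClasses.mk (cj b)
      rw [ConjClasses.mk_eq_mk_iff_isConj, _root_.isConj_iff]
      refine ⟨t, ?_⟩
      rw [mul_inv_eq_iff_eq_mul]
      apply extSU
      rw [mulSU, mulSU, hcj, hcj, ht, smul_mul_assoc, mul_smul_comm]
      congr 1
      calc B * st q A * (A * u₀ * st q A) = B * (st q A * A) * u₀ * st q A := by simp only [mul_assoc]
        _ = B * u₀ * st q A := by rw [hGU a, mul_one]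
        _ = B * u₀ * (st q B * B) * st q A := by rw [hGU b, mul_one]
        _ = B * u₀ * st q B * (B * st q A) := by simp only [mul_assoc]
  rw [card_eq_of_fibers f d hf hd hfib]
  change H.index = _
  rw [IsCyclic.index_powMonoidHom_range, card_rootsOfUnity_eq hK, Nat.gcd_comm]

end Reg

end Cfsg.Agent.H186
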